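import Cfsg.Agent.Lib.InvChar.ConstrainedSignalizer
import Cfsg.Agent.Lib.InvChar.EarlyCharTwo
import Cfsg.Agent.Lib.Comp.FunctorTrivial
import Cfsg.Agent.Lib.OddLocal.LocalCore
import Cfsg.Agent.Lib.Fusion.PPowerIndex
import Cfsg.Agent.Lib.Comp.SFT.Main
import Cfsg.Prelude.Def_Involutions
import Cfsg.Prelude.Def_CaseTheorems
import Cfsg.Prelude.Def_PLocal
import Cfsg.Prelude.Def_Transfer

/-!
# Solvable involution centralizers with small central normalizer: basic facts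

Groups in which involution centralizers are solvable and the centralizer of the central involutions of a
Sylow 2-subgroup normalizes it.
-/

set_option autoImplicit false
set_option linter.style.haveILetI false
set_option linter.unusedSectionVars false

namespace CfsgLib.Comp.SolvCent

open Subgroup
open CfsgLib.InvChar.ConstrainedSignalizer (El coreJoin Constrained Complete)

universe u

variable {G : Type u} [Group G] [Finite G]

/-- The subgroup of elements squaring to one in the centre of a Sylow 2-subgroup. -/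
def zSub (S : Sylow 2 G) : Subgroup G where
  carrier := {x | x ∈ (S : Subgroup G) ∧ x ^ 2 = 1 ∧ ∀ s ∈ (S : Subgroup G), s * x = x * s}
  one_mem' := ⟨one_mem _, one_pow 2, fun s _ => by rw [mul_one, one_mul]⟩
  mul_mem' := by
    rintro a b ⟨ha, ha2, hac⟩ ⟨hb, hb2, hbc⟩
    refine ⟨mul_mem ha hb, ?_, fun s hs => ?_⟩
    · rw [(show Commute a b from hbc a ha).mul_pow, ha2, hb2, one_mul]
    · exact ((show Commute s a from hac s hs).mul_right (hbc s hs)).eq
  inv_mem' := by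
    rintro a ⟨ha, ha2, hac⟩
    exact ⟨inv_mem ha, by rw [inv_pow, ha2, inv_one], fun s hs => ((show Commute s a from hac s hs).inv_right).eq⟩

theorem mem_zSub {S : Sylow 2 G} {x : G} : x ∈ zSub S ↔
    x ∈ (S : Subgroup G) ∧ x ^ 2 = 1 ∧ ∀ s ∈ (S : Subgroup G), s * x = x * s := Iff.rfl

theorem omegaOne_eq (S : Sylow 2 G) :
    Cfsg.omegaOne 2 ((S : Subgroup G) ⊓ centralizer ((S : Subgroup G) : Set G)) = zSub S := by
  refine le_antisymm ((closure_le _).2 fun x hx => ⟨hx.1.1, hx.2, fun s hs => ?_⟩) fun x hx => ?_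
  · exact mem_centralizer_iff.1 hx.1.2 s hs
  · exact subset_closure ⟨⟨hx.1, mem_centralizer_iff.2 fun s hs => hx.2.2 s hs⟩, hx.2.1⟩

/-- The hypotheses shared by the whole analysis. -/
structure Ctx (G : Type u) [Group G] [Finite G] : Prop where
  sol : ∀ t : G, orderOf t = 2 → Group.IsSolvable ↥(centralizer ({t} : Set G))
  zn : ∀ (S : Sylow 2 G) (c : G), (∀ x ∈ zSub S, c * x = x * c) →
    c ∈ normalizer ((S : Subgroup G) : Set G)
  core : Cfsg.pPrimeCore 2 G = ⊥
  even : 2 ∣ Nat.card G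

/-- A two-element: some 2-power power is trivial. -/
theorem isPGroup_zpowers_sq {x : G} (hx : x ^ 2 = 1) : IsPGroup 2 ↥(zpowers x) := fun y =>
  ⟨1, Subtype.ext (by
    obtain ⟨k, hk⟩ := mem_zpowers_iff.1 y.2
    show (y : G) ^ 2 ^ 1 = 1
    rw [← hk, pow_one, ← zpow_natCast, zpow_comm, zpow_natCast, hx, one_zpow])⟩

/-- A 2-subgroup normalizing a Sylow 2-subgroup lies in it. -/
theorem le_of_normalizes (S : Sylow 2 G) {X : Subgroup G} (hX : IsPGroup 2 ↥X)
    (hn : X ≤ normalizer ((S : Subgroup G) : Set G)) : X ≤ (S : Subgroup G) := by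
  have h := IsPGroup.to_sup_of_normal_right' hX S.2 hn
  exact le_sup_left.trans (S.3 h le_sup_right).le

theorem mem_of_normalizes (S : Sylow 2 G) {x : G} (hx : ∃ k : ℕ, x ^ 2 ^ k = 1)
    (hn : x ∈ normalizer ((S : Subgroup G) : Set G)) : x ∈ (S : Subgroup G) := by
  obtain ⟨k, hk⟩ := hx
  obtain ⟨j, -, hj⟩ := (Nat.dvd_prime_pow Nat.prime_two).1 (orderOf_dvd_of_pow_eq_one hk)
  haveI : Fact (Nat.Prime 2) := ⟨Nat.prime_two⟩
  exact le_of_normalizes S (isPGroup_zpowers_of_orderOf hj) (zpowers_le.2 hn) (mem_zpowers x)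

theorem exists_pow_of_mem (S : Sylow 2 G) {x : G} (hx : x ∈ (S : Subgroup G)) :
    ∃ k : ℕ, x ^ 2 ^ k = 1 := by
  obtain ⟨k, hk⟩ := S.2 ⟨x, hx⟩
  exact ⟨k, congrArg Subtype.val hk⟩

theorem mem_smul_iff (S : Sylow 2 G) (g x : G) :
    x ∈ ((g • S : Sylow 2 G) : Subgroup G) ↔ g⁻¹ * x * g ∈ (S : Subgroup G) := by
  rw [Sylow.coe_subgroup_smul, Subgroup.mem_pointwise_smul_iff_inv_smul_mem]
  simp

theorem zSub_smul (S : Sylow 2 G) (g x : G) : x ∈ zSub (g • S) ↔ g⁻¹ * x * g ∈ zSub S := by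
  simp only [mem_zSub, mem_smul_iff]
  have e2 : (g⁻¹ * x * g) ^ 2 = g⁻¹ * x ^ 2 * g := by rw [pow_two, pow_two]; group
  refine and_congr_right fun _ => and_congr ?_ ?_
  · rw [e2]
    constructor
    · intro h; rw [h]; group
    · intro h
      calc x ^ 2 = g * (g⁻¹ * x ^ 2 * g) * g⁻¹ := by group
        _ = 1 := by rw [h]; group
  · constructor
    · intro h s hs
      have h1 := h (g * s * g⁻¹) (by simpa [mul_assoc] using hs)
      calc s * (g⁻¹ * x * g) = g⁻¹ * ((g * s * g⁻¹) * x) * g := by group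
        _ = g⁻¹ * (x * (g * s * g⁻¹)) * g := by rw [h1]
        _ = g⁻¹ * x * g * s := by group
    · intro h s hs
      have h1 := h _ hs
      calc s * x = g * ((g⁻¹ * s * g) * (g⁻¹ * x * g)) * g⁻¹ := by group
        _ = g * ((g⁻¹ * x * g) * (g⁻¹ * s * g)) * g⁻¹ := by rw [h1]
        _ = x * s := by group

/-- The single central involution. -/
structure One (S : Sylow 2 G) (z : G) : Prop where
  mem : z ∈ zSub S
  ne : z ≠ 1
  uniq : ∀ x ∈ zSub S, x = 1 ∨ x = z

theorem One.mul_self {S : Sylow 2 G} {z : G} (h : One S z) : z * z = 1 := by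
  rw [← pow_two]; exact h.mem.2.1

theorem One.order {S : Sylow 2 G} {z : G} (h : One S z) : orderOf z = 2 :=
  haveI : Fact (Nat.Prime 2) := ⟨Nat.prime_two⟩
  orderOf_eq_prime h.mem.2.1 h.ne

theorem One.smul {S : Sylow 2 G} {z : G} (h : One S z) (g : G) : One (g • S) (g * z * g⁻¹) := by
  refine ⟨(zSub_smul S g _).2 (by simpa [mul_assoc] using h.mem), fun e => h.ne (conj_eq_one_iff.1 e),
    fun x hx => ?_⟩
  rcases h.uniq _ ((zSub_smul S g x).1 hx) with e | e
  · left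
    calc x = g * (g⁻¹ * x * g) * g⁻¹ := by group
      _ = 1 := by rw [e]; group
  · right
    rw [← e]; group

theorem exists_central_mem (S : Sylow 2 G) {H : Subgroup G} [H.Normal]
    (h : (S : Subgroup G) ⊓ H ≠ ⊥) : ∃ z ∈ zSub S, z ≠ 1 ∧ z ∈ H := by
  haveI : Fact (Nat.Prime 2) := ⟨Nat.prime_two⟩
  set N : Subgroup ↥(S : Subgroup G) := H.subgroupOf (S : Subgroup G) with hN
  have hNne : N ≠ ⊥ := by
    intro e
    refine h (eq_bot_iff.2 fun x hx => ?_)
    have h1 : (⟨x, hx.1⟩ : ↥(S : Subgroup G)) ∈ N := mem_subgroupOf.2 hx.2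
    rw [e, mem_bot] at h1
    exact mem_bot.2 (congrArg Subtype.val h1)
  have hne := CfsgLib.InvChar.ConstrainedSignalizer.meets_center S.2 hNne
  haveI : Nontrivial ↥(N ⊓ center ↥(S : Subgroup G)) := (Subgroup.nontrivial_iff_ne_bot _).2 hne
  obtain ⟨c, hc⟩ := exists_prime_orderOf_dvd_card' (G := ↥(N ⊓ center ↥(S : Subgroup G))) 2
    ((S.2.to_subgroup _).card_eq_or_dvd.resolve_left Finite.one_lt_card.ne')
  refine ⟨((c : ↥(S : Subgroup G)) : G), ⟨(c : ↥(S : Subgroup G)).2, ?_, fun s hs => ?_⟩, ?_, ?_⟩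
  · have h1 := pow_orderOf_eq_one c
    rw [hc] at h1
    exact congrArg (fun w : ↥(N ⊓ center ↥(S : Subgroup G)) => ((w : ↥(S : Subgroup G)) : G)) h1
  · exact congrArg Subtype.val (mem_center_iff.1 c.2.2 ⟨s, hs⟩)
  · intro e
    rw [show c = 1 from Subtype.ext (Subtype.ext e), orderOf_one] at hc
    omega
  · exact mem_subgroupOf.1 c.2.1

/-- One central involution, or two different ones. -/
theorem zSub_cases (h : 2 ∣ Nat.card G) (S : Sylow 2 G) :
    (∃ z, One S z) ∨ ∃ z₁ ∈ zSub S, ∃ z₂ ∈ zSub S, z₁ ≠ 1 ∧ z₂ ≠ 1 ∧ z₁ ≠ z₂ := by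
  haveI : Fact (Nat.Prime 2) := ⟨Nat.prime_two⟩
  have hne : (S : Subgroup G) ⊓ (⊤ : Subgroup G) ≠ ⊥ := by
    rw [inf_top_eq]; exact S.ne_bot_of_dvd_card h
  obtain ⟨z, hz, hz1, -⟩ := exists_central_mem S hne
  by_cases hu : ∀ x ∈ zSub S, x = 1 ∨ x = z
  · exact Or.inl ⟨z, hz, hz1, hu⟩
  · push Not at hu
    obtain ⟨x, hx, hx1, hxz⟩ := hu
    exact Or.inr ⟨z, hz, x, hx, hz1, hx1, hxz.symm⟩

namespace Ctx

variable (hG : Ctx G)
include hG

theorem constrained : Constrained G := fun t ht ht1 => by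
  haveI : Fact (Nat.Prime 2) := ⟨Nat.prime_two⟩
  haveI := hG.sol t (orderOf_eq_prime (by rw [pow_two]; exact ht) ht1)
  exact (isPConstrained_iff_pLayer 2 _).2 (CfsgLib.OddLocal.pLayer_eq_bot_of_solvable 2 _)

theorem complete : Complete G :=
  CfsgLib.InvChar.ConstrainedSignalizer.complete_of_signalizer hG.constrained
    fun E hc he h3 => CfsgLib.Comp.SFT.solvable_functor_two E hc he h3

theorem balance {a b : G} (ha : a ^ 2 = 1) (hb : b ^ 2 = 1) (hb1 : b ≠ 1) (hab : a * b = b * a) :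
    Cfsg.centralizerPPrimeCore 2 a ⊓ centralizer ({b} : Set G) ≤ Cfsg.centralizerPPrimeCore 2 b :=
  CfsgLib.InvChar.ConstrainedSignalizer.balance hG.constrained (by rw [← pow_two]; exact hb) hb1 hab
    ⟨1, by rw [pow_one]; exact ha⟩

theorem two_mem_of_commute {S : Sylow 2 G} {z x : G} (hz : One S z) (hx : ∃ k : ℕ, x ^ 2 ^ k = 1)
    (hc : x * z = z * x) : x ∈ (S : Subgroup G) := by
  refine mem_of_normalizes S hx (hG.zn S x fun y hy => ?_)
  rcases hz.uniq y hy with rfl | rfl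
  · rw [mul_one, one_mul]
  · exact hc

theorem centralizer_le {S : Sylow 2 G} {z : G} (hz : One S z) :
    centralizer ({z} : Set G) ≤ normalizer ((S : Subgroup G) : Set G) := fun x hx => by
  refine hG.zn S x fun y hy => ?_
  rcases hz.uniq y hy with rfl | rfl
  · rw [mul_one, one_mul]
  · exact mem_centralizer_singleton_iff.1 hx

end Ctx

/-- Elements of an odd-order subgroup normalized by `z` that centralize a conjugate of `z` whose Sylow
2-subgroup contains `z` centralize `z`. -/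
theorem inf_centralizer_le (hG : Ctx G) {S : Sylow 2 G} {b z : G} (hb : One S b)
    (hz : z ∈ (S : Subgroup G)) {W : Subgroup G} (hW : Odd (Nat.card ↥W))
    (hzW : z ∈ normalizer (W : Set G)) :
    W ⊓ centralizer ({b} : Set G) ≤ centralizer ({z} : Set G) := by
  rintro x ⟨hxW, hxb⟩
  have hxN := hG.centralizer_le hb hxb
  refine mem_centralizer_singleton_iff.2 ?_
  have h1 : z * x * z⁻¹ * x⁻¹ ∈ W := mul_mem ((mem_normalizer_iff.1 hzW x).1 hxW) (inv_mem hxW)
  have h2 : z * x * z⁻¹ * x⁻¹ ∈ (S : Subgroup G) := by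
    rw [show z * x * z⁻¹ * x⁻¹ = z * (x * z⁻¹ * x⁻¹) by group]
    exact mul_mem hz ((mem_normalizer_iff.1 hxN _).1 (inv_mem hz))
  have h3 : W ⊓ (S : Subgroup G) = ⊥ := by
    haveI : Fact (Nat.Prime 2) := ⟨Nat.prime_two⟩
    refine inf_eq_bot_of_coprime ?_
    obtain ⟨n, hn⟩ := S.2.exists_card_eq
    rw [hn]
    exact Nat.Coprime.pow_right _ (Nat.coprime_two_right.2 hW)
  have h4 : z * x * z⁻¹ * x⁻¹ = 1 := mem_bot.1 (h3 ▸ ⟨h1, h2⟩ : z * x * z⁻¹ * x⁻¹ ∈ (⊥ : Subgroup G))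
  exact (mul_inv_eq_iff_eq_mul.1 (mul_inv_eq_one.1 h4)).symm

theorem pPrimeCore_ne_bot_false (hG : Ctx G) {W : Subgroup G} (hW : Odd (Nat.card ↥W)) (hW1 : W ≠ ⊥) :
    normalizer (W : Set G) ≠ ⊤ := fun e => by
  haveI : W.Normal := normalizer_eq_top_iff.1 e
  exact hW1 (le_bot_iff.1 (hG.core ▸ (le_sSup ⟨inferInstance, Nat.coprime_two_right.2 hW⟩ :
    W ≤ Cfsg.pPrimeCore 2 G)))

theorem sup_pResidual (S : Sylow 2 G) : (S : Subgroup G) ⊔ Cfsg.pResidual 2 G = ⊤ :=
  haveI : Fact (Nat.Prime 2) := ⟨Nat.prime_two⟩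
  CfsgLib.Fusion.sylow_sup_pResidual S

/-- An element of a subgroup containing a Sylow 2-subgroup and squaring to one is conjugate in it into
that Sylow subgroup. -/
theorem exists_conj_mem (S : Sylow 2 G) {M : Subgroup G} (hSM : (S : Subgroup G) ≤ M) {t : G}
    (ht : t ∈ M) (ht2 : t ^ 2 = 1) : ∃ m ∈ M, m * t * m⁻¹ ∈ (S : Subgroup G) := by
  haveI : Fact (Nat.Prime 2) := ⟨Nat.prime_two⟩
  obtain ⟨Q, hQ⟩ := (isPGroup_zpowers_sq (x := (⟨t, ht⟩ : ↥M))
    (Subtype.ext (by simpa using ht2))).exists_le_sylow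
  obtain ⟨y, hy⟩ := MulAction.exists_smul_eq ↥M Q (S.subtype hSM)
  refine ⟨y, y.2, ?_⟩
  have h1 : y * ⟨t, ht⟩ * y⁻¹ ∈ ((S.subtype hSM : Sylow 2 ↥M) : Subgroup ↥M) := by
    rw [← hy, mem_smul_iff]
    simpa [mul_assoc] using hQ (mem_zpowers (⟨t, ht⟩ : ↥M))
  exact mem_subgroupOf.1 h1

/-- A criterion for strong embedding in `O^2(G)`. -/
theorem stronglyEmbedded (hH : (S : Sylow 2 G) → (S : Subgroup G) ⊓ Cfsg.pResidual 2 G ≠ ⊥)
    (S : Sylow 2 G) {M : Subgroup G} (hN : normalizer ((S : Subgroup G) : Set G) ≤ M) (hM : M ≠ ⊤)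
    (hcent : ∀ t ∈ (S : Subgroup G), t ∈ Cfsg.pResidual 2 G → orderOf t = 2 →
      centralizer ({t} : Set G) ≤ M) :
    Cfsg.IsStronglyEmbedded (M.subgroupOf (Cfsg.pResidual 2 G)) := by
  haveI : Fact (Nat.Prime 2) := ⟨Nat.prime_two⟩
  set H := Cfsg.pResidual 2 G with hHdef
  haveI : H.Normal := CfsgLib.Transfer.pResidual_normal
  have hSM : (S : Subgroup G) ≤ M := le_normalizer.trans hN
  obtain ⟨z, hzZ, hz1, hzH⟩ := exists_central_mem S (hH S)
  have hzo : orderOf z = 2 := orderOf_eq_prime hzZ.2.1 hz1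
  refine ⟨fun e => hM (top_le_iff.1 ?_), ?_, fun g hg => ?_⟩
  · rw [← sup_pResidual S]
    exact sup_le hSM (subgroupOf_eq_top.1 e)
  · have hzm : (⟨z, hzH⟩ : ↥H) ∈ M.subgroupOf H := mem_subgroupOf.2 (hSM hzZ.1)
    refine even_iff_two_dvd.2 ?_
    rw [← show orderOf (⟨z, hzH⟩ : ↥H) = 2 from (orderOf_coe (⟨z, hzH⟩ : ↥H)).symm.trans hzo]
    exact Subgroup.orderOf_dvd_natCard _ hzm
  · refine Nat.not_even_iff_odd.1 fun he => hg ?_
    obtain ⟨⟨t, htM, htg⟩, ht⟩ := exists_prime_orderOf_dvd_card'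
      (G := ↥(M.subgroupOf H ⊓ (M.subgroupOf H).map (MulAut.conj g).toMonoidHom)) 2
      (even_iff_two_dvd.1 he)
    obtain ⟨r, hrM, hr⟩ := htg
    have hto : orderOf (t : G) = 2 := by
      rw [orderOf_coe]
      rw [← orderOf_coe] at ht
      exact ht
    rw [mem_subgroupOf]
    -- `t` and `r = g⁻¹ t g` lie in `M`; so does `g`
    have key : ∀ (a b k : G), a ∈ (S : Subgroup G) → a ∈ H → b ∈ (S : Subgroup G) → orderOf b = 2 →
        k * a * k⁻¹ = b → k ∈ M := by
      intro a b k haS haH hbS hbo hk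
      have hbH : b ∈ H := hk ▸ Normal.conj_mem inferInstance a haH k
      have hC := hcent b hbS hbH hbo
      have hkz : k * z * k⁻¹ ∈ M := hC (mem_centralizer_singleton_iff.2 (by
        rw [← hk]
        calc k * z * k⁻¹ * (k * a * k⁻¹) = k * (z * a) * k⁻¹ := by group
          _ = k * (a * z) * k⁻¹ := by rw [hzZ.2.2 a haS]
          _ = k * a * k⁻¹ * (k * z * k⁻¹) := by group))
      have hkz2 : (k * z * k⁻¹) ^ 2 = 1 := by rw [conj_pow, hzZ.2.1, mul_one, mul_inv_cancel]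
      obtain ⟨m, hm, hr⟩ := exists_conj_mem S hSM hkz hkz2
      set r := m * (k * z * k⁻¹) * m⁻¹ with hrdef
      set j := m * k with hj
      have hjz : j * z * j⁻¹ = r := by rw [hrdef, hj]; group
      have hrH : r ∈ H := hjz ▸ Normal.conj_mem inferInstance z hzH j
      have hro : orderOf r = 2 := by rw [← hjz]; exact ((MulAut.conj j).orderOf_eq z).trans hzo
      have hCr := hcent r hr hrH hro
      have hjS : ((j • S : Sylow 2 G) : Subgroup G) ≤ M := by
        intro x hx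
        rw [mem_smul_iff] at hx
        refine hCr (mem_centralizer_singleton_iff.2 ?_)
        rw [← hjz]
        calc x * (j * z * j⁻¹) = j * ((j⁻¹ * x * j) * z) * j⁻¹ := by group
          _ = j * (z * (j⁻¹ * x * j)) * j⁻¹ := by rw [hzZ.2.2 _ hx]
          _ = j * z * j⁻¹ * x := by group
      obtain ⟨n, hn⟩ := MulAction.exists_smul_eq ↥M ((j • S).subtype hjS) (S.subtype hSM)
      have hn' : ((n : G) * j) • S = S := by
        rw [mul_smul]
        apply Sylow.subtype_injective (N := M) (hP := ?_) (hQ := hSM)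
        rw [← hn]; exact (Sylow.smul_subtype hjS n).symm
      have h1 : (n : G) * j ∈ M := hN (Sylow.smul_eq_iff_mem_normalizer.1 hn')
      have h2 : j ∈ M := by
        have := M.mul_mem (inv_mem n.2) h1
        simpa [mul_assoc] using this
      have := M.mul_mem (inv_mem hm) h2
      simpa [hj, mul_assoc] using this
    have htr : (g : G) * (r : G) * (g : G)⁻¹ = (t : G) := by
      rw [← hr]; rfl
    have hro : orderOf (r : G) = 2 := by
      rw [← hto, ← htr]; exact ((MulAut.conj (g : G)).orderOf_eq (r : G)).symm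
    obtain ⟨m₁, hm₁, h1⟩ := exists_conj_mem S hSM (mem_subgroupOf.1 hrM)
      (by rw [← hro]; exact pow_orderOf_eq_one _)
    obtain ⟨m₂, hm₂, h2⟩ := exists_conj_mem S hSM (mem_subgroupOf.1 htM)
      (by rw [← hto]; exact pow_orderOf_eq_one _)
    have hk := key _ _ (m₂ * g * m₁⁻¹) h1 (Normal.conj_mem inferInstance _ r.2 m₁) h2
      (((MulAut.conj m₂).orderOf_eq (t : G)).trans hto) (by rw [← htr]; group)
    have := M.mul_mem (M.mul_mem (inv_mem hm₂) hk) hm₁
    simpa [mul_assoc] using this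

end CfsgLib.Comp.SolvCent
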