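import Cfsg.Agent.Lib.Comp.SolvCent.Basic
import Cfsg.Agent.Lib.InvChar.EarlyCharTwo

/-!
# Trivial cores give characteristic two type
-/

set_option autoImplicit false
set_option linter.style.haveILetI false
set_option linter.unusedSectionVars false

namespace CfsgLib.Comp.SolvCent

open Subgroup

universe u

variable {G : Type u} [Group G] [Finite G]

/-- Automorphisms carry cores of centralizers to cores of centralizers. -/
theorem map_core_equiv {X : Type u} [Group X] [Finite X] (φ : X ≃* X) {a : X} (ha : φ a = a) :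
    (Cfsg.centralizerPPrimeCore 2 a).map φ.toMonoidHom ≤ Cfsg.centralizerPPrimeCore 2 a := by
  haveI : Fact (Nat.Prime 2) := ⟨Nat.prime_two⟩
  have ha' : φ.symm a = a := by
    conv_lhs => rw [← ha]
    exact φ.symm_apply_apply a
  refine le_centralizerPPrimeCore ?_ ?_ ?_
  · rintro _ ⟨y, hy, rfl⟩
    refine mem_centralizer_singleton_iff.2 ?_
    show φ y * a = a * φ y
    conv_lhs => rw [← ha]
    conv_rhs => rw [← ha]
    rw [← map_mul, ← map_mul, mem_centralizer_singleton_iff.1 (centralizerPPrimeCore_le a hy)]
  · intro c hc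
    have hc' : φ.symm c ∈ centralizer ({a} : Set X) := by
      refine mem_centralizer_singleton_iff.2 (φ.injective ?_)
      rw [map_mul, map_mul, φ.apply_symm_apply, ha, mem_centralizer_singleton_iff.1 hc]
    refine mem_normalizer_iff.2 fun y => ?_
    have key : ∀ w, w ∈ (Cfsg.centralizerPPrimeCore 2 a).map φ.toMonoidHom ↔
        φ.symm w ∈ Cfsg.centralizerPPrimeCore 2 a := fun w => mem_map_equiv
    rw [key, key, map_mul, map_mul, map_inv]
    exact mem_normalizer_iff.1 (centralizer_le_normalizer_centralizerPPrimeCore a hc') _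
  · rw [card_map_of_injective φ.injective]
    exact coprime_card_centralizerPPrimeCore a

/-- A normal subgroup all of whose involutions have centralizers with trivial core is of characteristic
two type. -/
theorem charTwo (hG : Ctx G) {X : Subgroup G} [X.Normal] (hX : 2 ∣ Nat.card ↥X)
    (hcore : ∀ t ∈ X, orderOf t = 2 → Cfsg.centralizerPPrimeCore 2 t = ⊥) :
    Cfsg.IsCharacteristicTwoType ↥X := by
  haveI : Fact (Nat.Prime 2) := ⟨Nat.prime_two⟩
  have hsol : ∀ t : ↥X, orderOf t = 2 → Group.IsSolvable ↥(centralizer ({t} : Set ↥X)) := by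
    intro t ht
    haveI := hG.sol (t : G) (by rw [orderOf_coe, ht])
    let f : ↥(centralizer ({t} : Set ↥X)) →* ↥(centralizer ({(t : G)} : Set G)) :=
      (X.subtype.comp (centralizer ({t} : Set ↥X)).subtype).codRestrict _ fun c =>
        mem_centralizer_singleton_iff.2 (congrArg Subtype.val (mem_centralizer_singleton_iff.1 c.2))
    refine Group.isSolvable_of_isSolvable_injective (f := f) fun a b hab => ?_
    exact Subtype.ext (Subtype.ext (by simpa [f] using congrArg Subtype.val hab))
  have hcon : CfsgLib.InvChar.ConstrainedSignalizer.Constrained ↥X := fun t ht ht1 => by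
    haveI := hsol t (orderOf_eq_prime (by rw [pow_two]; exact ht) ht1)
    exact (isPConstrained_iff_pLayer 2 _).2 (CfsgLib.OddLocal.pLayer_eq_bot_of_solvable 2 _)
  have hcoreX : ∀ t : ↥X, orderOf t = 2 → Cfsg.centralizerPPrimeCore 2 t = ⊥ := by
    intro t ht
    refine (map_eq_bot_iff_of_injective _ X.subtype_injective).1 (le_bot_iff.1 ?_)
    rw [← hcore (t : G) t.2 (by rw [orderOf_coe, ht])]
    refine le_centralizerPPrimeCore ?_ ?_ ?_
    · rintro _ ⟨y, hy, rfl⟩
      exact mem_centralizer_singleton_iff.2
        (congrArg Subtype.val (mem_centralizer_singleton_iff.1 (centralizerPPrimeCore_le t hy)))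
    · intro c hc
      have hfix : ∀ c ∈ centralizer ({(t : G)} : Set G),
          (Cfsg.centralizerPPrimeCore 2 t).map (MulAut.conjNormal (H := X) c).toMonoidHom ≤
            Cfsg.centralizerPPrimeCore 2 t := fun c hc => map_core_equiv _ (Subtype.ext (by
        rw [MulAut.conjNormal_apply]
        exact mul_inv_eq_iff_eq_mul.2 (mem_centralizer_singleton_iff.1 hc)))
      have himg : ∀ c ∈ centralizer ({(t : G)} : Set G),
          ∀ y ∈ (Cfsg.centralizerPPrimeCore 2 t).map X.subtype,
            c * y * c⁻¹ ∈ (Cfsg.centralizerPPrimeCore 2 t).map X.subtype := by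
        rintro c hc _ ⟨y, hy, rfl⟩
        exact ⟨_, hfix c hc ⟨y, hy, rfl⟩, MulAut.conjNormal_apply c y⟩
      refine mem_normalizer_iff.2 fun y => ⟨himg c hc y, fun h => ?_⟩
      have := himg c⁻¹ (inv_mem hc) _ h
      simpa [mul_assoc] using this
    · rw [card_map_of_injective X.subtype_injective]
      exact coprime_card_centralizerPPrimeCore t
  refine ⟨even_iff_two_dvd.2 hX, fun T hT hT1 => ?_⟩
  refine CfsgLib.InvChar.EarlyCharTwo.local_centralizer_le hcon hcoreX hT hT1 ?_
  -- the layer of the 2-local vanishes: it centralizes a central involution of `T`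
  haveI : Nontrivial ↥T := (Subgroup.nontrivial_iff_ne_bot _).2 hT1
  haveI := hT.center_nontrivial
  obtain ⟨c, hc⟩ := exists_prime_orderOf_dvd_card' (G := ↥(center ↥T)) 2
    ((hT.to_subgroup _).card_eq_or_dvd.resolve_left Finite.one_lt_card.ne')
  haveI hs := hsol ((c : ↥T) : ↥X) (by rw [orderOf_coe, orderOf_coe, hc])
  set N := normalizer (T : Set ↥X) with hN
  haveI : (T.subgroupOf N).Normal := normal_in_normalizer
  haveI : Group.IsSolvable ↥(centralizer ((T.subgroupOf N : Subgroup ↥N) : Set ↥N)) := by
    let f : ↥(centralizer ((T.subgroupOf N : Subgroup ↥N) : Set ↥N)) →*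
        ↥(centralizer ({((c : ↥T) : ↥X)} : Set ↥X)) :=
      (N.subtype.comp (centralizer ((T.subgroupOf N : Subgroup ↥N) : Set ↥N)).subtype).codRestrict _
        fun x => mem_centralizer_singleton_iff.2 (congrArg Subtype.val
          (mem_centralizer_iff.1 x.2 ⟨_, le_normalizer (c : ↥T).2⟩ (mem_subgroupOf.2 (c : ↥T).2))).symm
    refine Group.isSolvable_of_isSolvable_injective (f := f) fun a b hab => ?_
    exact Subtype.ext (Subtype.ext (by simpa [f] using congrArg Subtype.val hab))
  refine CfsgLib.InvChar.isPConstrained_of_centralizer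
    (T := T.subgroupOf N) (hT.comap_of_injective N.subtype N.subtype_injective) ?_
  exact (isPConstrained_iff_pLayer 2 _).2 (CfsgLib.OddLocal.pLayer_eq_bot_of_solvable 2 _)

end CfsgLib.Comp.SolvCent
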