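import Cfsg.Agent.Lib.Comp.SolvCent.Rank
import Cfsg.Agent.Lib.Comp.SolvCent.CharTwo

/-!
# Rank at least three: characteristic two type or a strongly embedded subgroup
-/

set_option autoImplicit false
set_option linter.style.haveILetI false
set_option linter.unusedSectionVars false

namespace CfsgLib.Comp.SolvCent

open Subgroup
open CfsgLib.InvChar.ConstrainedSignalizer (El coreJoin el_closure)

universe u

variable {G : Type u} [Group G] [Finite G]

theorem eq_smul_of_centralizes (hG : Ctx G) {S' : Sylow 2 G} {c : G}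
    (h : ∀ x ∈ zSub S', c * x * c⁻¹ ∈ zSub S') : c ∈ normalizer ((S' : Subgroup G) : Set G) := by
  have hZ : (zSub S').map (MulAut.conj c).toMonoidHom = zSub S' := by
    refine eq_of_le_of_card_ge ?_ (le_of_eq (card_map_of_injective (MulEquiv.injective _)).symm)
    rintro _ ⟨x, hx, rfl⟩
    exact h x hx
  refine Sylow.smul_eq_iff_mem_normalizer.1 ?_
  have hle : ((c • S' : Sylow 2 G) : Subgroup G) ≤ (S' : Subgroup G) := by
    intro x hx
    refine mem_of_normalizes S' ?_ (hG.zn S' x fun y hy => ?_)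
    · exact exists_pow_of_mem _ hx
    · obtain ⟨w, hw, rfl⟩ := hZ.symm ▸ hy
      exact ((zSub_smul S' c (c * w * c⁻¹)).2 (by simpa [mul_assoc] using hw)).2.2 x hx
  exact Sylow.ext ((c • S').3 S'.2 hle).symm

/-- Two Sylow subgroups at an involution with a big subgroup centralizing it have the same join. -/
theorem join_eq_of_centralizer (hG : Ctx G) {S S' : Sylow 2 G} {E E' : Subgroup G}
    (hE : Big (S : Subgroup G) E) (hE' : Big (S' : Subgroup G) E') {t : G} (htS : t ∈ (S : Subgroup G))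
    (htE' : t ∈ E') (ht1 : t ≠ 1)
    (hT : (S : Subgroup G) ⊓ centralizer ({t} : Set G) ≤ (S' : Subgroup G)) :
    coreJoin E = coreJoin E' := by
  haveI : Fact (Nat.Prime 2) := ⟨Nat.prime_two⟩
  by_cases hcom : ∃ F, Big ((S : Subgroup G) ⊓ (S' : Subgroup G)) F
  · obtain ⟨F, hF⟩ := hcom
    exact (join_eq hG hE (hF.mono inf_le_left)).trans (join_eq hG (hF.mono inf_le_right) hE')
  have ht2 : t ^ 2 = 1 := hE'.1.2 t htE'
  have hsub : ∀ F, Big (S : Subgroup G) F → (∀ f ∈ F, f * t = t * f) → False := fun F hF hc =>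
    hcom ⟨F, hF.1, hF.2.1, fun f hf =>
      ⟨hF.2.2 hf, hT ⟨hF.2.2 hf, mem_centralizer_singleton_iff.2 (hc f hf)⟩⟩⟩
  rcases zSub_cases hG.even S with ⟨z, hz⟩ | ⟨z₁, hz₁, z₂, hz₂, h1, h2, hne⟩
  swap
  · exfalso
    by_cases htz : t ∈ zSub S
    · exact hsub E hE fun f hf => htz.2.2 f (hE.2.2 hf)
    obtain ⟨F, hF, hF1, hF2, htF⟩ := big_of_three hz₁.1 hz₂.1 htS hz₁.2.1 hz₂.2.1 ht2
      (hz₂.2.2 z₁ hz₁.1) (hz₁.2.2 t htS).symm (hz₂.2.2 t htS).symm h1 h2 hne
      (fun e => htz (e ▸ one_mem _)) (fun e => htz (e ▸ hz₁)) (fun e => htz (e ▸ hz₂))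
      (fun e => htz (e ▸ mul_mem hz₁ hz₂))
    exact hsub F hF fun f hf => hF.1.1 f hf t htF
  -- the central involution and its conjugate in `S'`
  obtain ⟨g, hg⟩ := MulAction.exists_smul_eq G S S'
  set z' := g * z * g⁻¹ with hz'def
  have hz' : One S' z' := hg ▸ hz.smul g
  have hzS' : z ∈ (S' : Subgroup G) :=
    hT ⟨hz.mem.1, mem_centralizer_singleton_iff.2 (hz.mem.2.2 t htS).symm⟩
  have hz'S : z' ∈ (S : Subgroup G) :=
    hG.two_mem_of_commute hz (exists_pow_of_mem S' hz'.mem.1) (hz'.mem.2.2 z hzS').symm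
  have hnoz : ∀ F, Big (S' : Subgroup G) F → z ∈ F → False := fun F hF hzF =>
    hcom ⟨F, hF.1, hF.2.1, fun f hf => ⟨hG.two_mem_of_commute hz ⟨1, by rw [pow_one]; exact hF.1.2 f hf⟩
      (hF.1.1 f hf z hzF), hF.2.2 hf⟩⟩
  obtain ⟨w, a, h⟩ := exists_four hE'
  have hwz' : w = z' := (hz'.uniq w h.hz).resolve_left h.z1
  subst hwz'
  have hza : z * a * z⁻¹ = z' * a := by
    refine (h.conj z hzS').resolve_left fun r => ?_
    obtain ⟨F, hF, hzF, -, -⟩ := h.big_of_commute hE' hzS' hz.mem.2.1 (mul_inv_eq_iff_eq_mul.1 r)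
    exact hnoz F hF hzF
  have hne : z ≠ z' := by
    intro e
    have h1 : z * a = a * z := by rw [e]; exact h.za
    rw [h1, mul_inv_cancel_right] at hza
    exact h.z1 (by simpa using hza.symm)
  have hz'z : z' * z = z * z' := (hz'.mem.2.2 z hzS').symm
  have hazz : a * z * a⁻¹ = z' * z := by
    have h3 : z * a = z' * a * z := by rw [← hza]; group
    calc a * z * a⁻¹ = z' * (z' * a * z) * a⁻¹ := by
          rw [← mul_assoc, ← mul_assoc, hz'.mul_self, one_mul]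
      _ = z' * z := by rw [← h3]; group
  have hz'2 : One (a • (S : Sylow 2 G)) (z' * z) := hazz ▸ hz.smul a
  have hz'1 : One (g • S) z' := hz.smul g
  set V := closure ({z, z'} : Set G) with hV
  have hVel : El V := by
    refine el_closure ?_ ?_
    · rintro x (rfl | rfl) y (rfl | rfl)
      exacts [rfl, hz'z.symm, hz'z, rfl]
    · rintro x (rfl | rfl)
      exacts [hz.mem.2.1, hz'.mem.2.1]
  have hVS : V ≤ (S : Subgroup G) := (closure_le _).2 (by
    rintro x (rfl | rfl)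
    exacts [hz.mem.1, hz'S])
  have hVS' : V ≤ (S' : Subgroup G) := (closure_le _).2 (by
    rintro x (rfl | rfl)
    exacts [hzS', hz'.mem.1])
  have hVmem : ∀ b ∈ V, b = 1 ∨ b = z ∨ b = z' ∨ b = z' * z := by
    intro b hb
    induction hb using closure_induction with
    | mem x hx =>
      rcases hx with rfl | rfl
      exacts [Or.inr (Or.inl rfl), Or.inr (Or.inr (Or.inl rfl))]
    | one => exact Or.inl rfl
    | mul x y _ _ hx hy =>
      have e1 : z * z = 1 := hz.mul_self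
      have e2 : z' * z' = 1 := hz'.mul_self
      have e3 : ∀ w, z * (z * w) = w := fun w => by rw [← mul_assoc, e1, one_mul]
      have e4 : ∀ w, z' * (z' * w) = w := fun w => by rw [← mul_assoc, e2, one_mul]
      have e5 : ∀ w, z * (z' * w) = z' * (z * w) := fun w => by rw [← mul_assoc, ← hz'z, mul_assoc]
      rcases hx with rfl | rfl | rfl | rfl <;> rcases hy with rfl | rfl | rfl | rfl <;>
        simp [mul_assoc, e1, e2, e3, e4, e5, hz'z.symm]
    | inv x _ hx =>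
      rcases hx with rfl | rfl | rfl | rfl
      · simp
      · exact Or.inr (Or.inl (inv_eq_of_mul_eq_one_right hz.mul_self))
      · exact Or.inr (Or.inr (Or.inl (inv_eq_of_mul_eq_one_right hz'.mul_self)))
      · refine Or.inr (Or.inr (Or.inr ?_))
        rw [mul_inv_rev, inv_eq_of_mul_eq_one_right hz'.mul_self, inv_eq_of_mul_eq_one_right hz.mul_self,
          hz'z]
  have hz'za : z' * z ∈ V := mul_mem (subset_closure (Or.inr rfl)) (subset_closure (Or.inl rfl))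
  -- the joins centralize `V`
  have hcent : ∀ W : Subgroup G, Odd (Nat.card ↥W) → V ≤ normalizer (W : Set G) →
      W ≤ centralizer ({z} : Set G) ⊓ centralizer ({z'} : Set G) := by
    intro W hW hVW
    have hzV : z ∈ V := subset_closure (Or.inl rfl)
    have hz'V : z' ∈ V := subset_closure (Or.inr rfl)
    have hvs : ∀ (U : Sylow 2 G) (b v : G), One U b → v ∈ V → b ∈ V → v ∈ (U : Subgroup G) :=
      fun U b v hb hv hbV => hG.two_mem_of_commute hb ⟨1, by rw [pow_one]; exact hVel.2 v hv⟩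
        (hVel.1 v hv b hbV)
    haveI : IsMulCommutative ↥V := ⟨⟨fun a b => Subtype.ext (hVel.1 a a.2 b b.2)⟩⟩
    have hV2 : IsPGroup 2 ↥V := S.2.to_le hVS
    conv_lhs => rw [← CfsgLib.Coprime.iSup_centralizer_eq (A := V) (G := W) inferInstance
      (CfsgLib.InvChar.ConstrainedSignalizer.not_isCyclic_of_two hVel hzV hz'V hz.ne hz'.ne hne)
      hVW (by
        obtain ⟨n, hn⟩ := hV2.exists_card_eq
        rw [hn]
        exact Nat.Coprime.pow_left _ (Nat.coprime_two_left.2 hW))]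
    refine iSup_le fun b => ?_
    obtain ⟨b, hb, hb1⟩ := b
    rcases hVmem b hb with rfl | rfl | rfl | rfl
    · exact absurd rfl hb1
    · exact le_inf (inf_le_right) (inf_centralizer_le hG hz (hVS hz'V) hW (hVW hz'V))
    · exact le_inf (inf_centralizer_le hG hz'1 (hvs _ _ _ hz'1 hzV hz'V) hW (hVW hzV)) inf_le_right
    · exact le_inf (inf_centralizer_le hG hz'2 (hvs _ _ _ hz'2 hzV hz'za) hW (hVW hzV))
        (inf_centralizer_le hG hz'2 (hvs _ _ _ hz'2 hz'V hz'za) hW (hVW hz'V))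
  have hn : ∀ (U : Sylow 2 G) (F : Subgroup G), Big (U : Subgroup G) F → V ≤ (U : Subgroup G) →
      V ≤ normalizer (coreJoin F : Set G) := fun U F hF hVU =>
    hVU.trans (le_normalizer.trans (normalizer_le hG hF))
  have hW := hcent _ (odd_join hG hE) (hn S E hE hVS)
  have hW' := hcent _ (odd_join hG hE') (hn S' E' hE' hVS')
  have hmeet : ∀ (U : Sylow 2 G) (F : Subgroup G) (b : G), Big (U : Subgroup G) F → One U b →
      coreJoin F ≤ centralizer ({b} : Set G) → coreJoin F ≤ Cfsg.centralizerPPrimeCore 2 b ∧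
        Cfsg.centralizerPPrimeCore 2 b ≤ coreJoin F := by
    intro U F b hF hb hle
    obtain ⟨F₁, hF₁, hbF₁, -⟩ := hF.insert hb.mem.1 hb.mem.2.1 fun e he => (hb.mem.2.2 e (hF.2.2 he)).symm
    rw [join_eq hG hF hF₁] at hle ⊢
    refine ⟨?_, core_le_join hF₁ hbF₁ hb.ne⟩
    rw [← (hG.complete F₁ hF₁.1.1 hF₁.1.2 hF₁.2.1).2 b hbF₁ hb.ne]
    exact le_inf le_rfl hle
  obtain ⟨a1, b1⟩ := hmeet S E z hE hz (hW.trans inf_le_left)
  obtain ⟨a2, b2⟩ := hmeet S' E' z' hE' hz' (hW'.trans inf_le_right)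
  refine le_antisymm ?_ ?_
  · exact (le_inf a1 (hW.trans inf_le_right)).trans
      ((hG.balance hz.mem.2.1 hz'.mem.2.1 hz'.ne hz'z.symm).trans b2)
  · exact (le_inf a2 (hW'.trans inf_le_left)).trans
      ((hG.balance hz'.mem.2.1 hz.mem.2.1 hz.ne hz'z).trans b1)

/-- The centralizer of an involution normalizes the join of any Sylow subgroup that meets it in a Sylow
subgroup of it and has a big subgroup containing it. -/
theorem centralizer_le_normalizer_join (hG : Ctx G) {S' : Sylow 2 G} {E' : Subgroup G}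
    (hE' : Big (S' : Subgroup G) E') {t : G} (ht : t ∈ E') (ht1 : t ≠ 1)
    {T : Sylow 2 ↥(centralizer ({t} : Set G))}
    (hTS : (T : Subgroup ↥(centralizer ({t} : Set G))).map (centralizer ({t} : Set G)).subtype ≤
      (S' : Subgroup G)) :
    centralizer ({t} : Set G) ≤ normalizer (coreJoin E' : Set G) := by
  haveI : Fact (Nat.Prime 2) := ⟨Nat.prime_two⟩
  have ht2 : t ^ 2 = 1 := hE'.1.2 t ht
  have hto : orderOf t = 2 := orderOf_eq_prime ht2 ht1
  set M := normalizer (coreJoin E' : Set G) with hMdef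
  have hS'M : (S' : Subgroup G) ≤ M := le_normalizer.trans (normalizer_le hG hE')
  -- `T` consists of the elements of `S'` in `(centralizer ({t} : Set G))`
  have hTmem : ∀ x : ↥(centralizer ({t} : Set G)), (x : G) ∈ (S' : Subgroup G) → x ∈ (T : Subgroup ↥(centralizer ({t} : Set G))) := by
    intro x hx
    have h1 : IsPGroup 2 ↥((S' : Subgroup G).subgroupOf (centralizer ({t} : Set G))) :=
      S'.2.comap_of_injective (centralizer ({t} : Set G)).subtype (centralizer ({t} : Set G)).subtype_injective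
    have h2 : (T : Subgroup ↥(centralizer ({t} : Set G))) ≤ (S' : Subgroup G).subgroupOf (centralizer ({t} : Set G)) := fun y hy =>
      mem_subgroupOf.2 (hTS ⟨y, hy, rfl⟩)
    exact (T.3 h1 h2).le (mem_subgroupOf.2 hx)
  have htC : t ∈ (centralizer ({t} : Set G)) := mem_centralizer_singleton_iff.2 rfl
  haveI := hG.sol t hto
  have hcon : Cfsg.IsPConstrained 2 ↥(centralizer ({t} : Set G)) :=
    (isPConstrained_iff_pLayer 2 _).2 (CfsgLib.OddLocal.pLayer_eq_bot_of_solvable 2 _)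
  -- the Sylow subgroup of `O_{2',2}`
  set K := Cfsg.pPrimePCore 2 ↥(centralizer ({t} : Set G)) with hK
  haveI := Cfsg.pPrimeCore_normal 2 ↥(centralizer ({t} : Set G))
  haveI : K.Normal := by
    haveI := Cfsg.pCore_normal 2 (↥(centralizer ({t} : Set G)) ⧸ Cfsg.pPrimeCore 2 ↥(centralizer ({t} : Set G)))
    rw [hK, Cfsg.pPrimePCore]; infer_instance
  obtain ⟨P, hP⟩ := CfsgLib.Transfer.exists_sylow_eq_subgroupOf T K
  set Q : Subgroup ↥(centralizer ({t} : Set G)) := (P : Subgroup ↥K).map K.subtype with hQ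
  have hQmem : ∀ x : ↥(centralizer ({t} : Set G)), x ∈ Q ↔ x ∈ (T : Subgroup ↥(centralizer ({t} : Set G))) ∧ x ∈ K := fun x => by
    rw [hQ, hP, subgroupOf_map_subtype, mem_inf]
  have hCQ : centralizer (Q : Set ↥(centralizer ({t} : Set G))) ≤ K := hcon P
  -- central elements of `S'` and `t` lie in `Q`
  have hcentral : ∀ x : ↥(centralizer ({t} : Set G)), (x : G) ∈ (S' : Subgroup G) →
      (∀ s ∈ (T : Subgroup ↥(centralizer ({t} : Set G))), s * x = x * s) → x ∈ Q := fun x hx hc =>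
    (hQmem x).2 ⟨hTmem x hx, hCQ (mem_centralizer_iff.2 fun s hs => hc s ((hQmem s).1 hs).1)⟩
  have htQ : (⟨t, htC⟩ : ↥(centralizer ({t} : Set G))) ∈ Q := hcentral _ (hE'.2.2 ht) fun s _ =>
    Subtype.ext (mem_centralizer_singleton_iff.1 s.2)
  have hzQ : ∀ x ∈ zSub S', ∃ hx : x ∈ (centralizer ({t} : Set G)), (⟨x, hx⟩ : ↥(centralizer ({t} : Set G))) ∈ Q := fun x hx =>
    ⟨mem_centralizer_singleton_iff.2 (hx.2.2 t (hE'.2.2 ht)).symm,
      hcentral _ hx.1 fun s hs => Subtype.ext (hx.2.2 _ (hTS ⟨s, hs, rfl⟩))⟩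
  -- the core
  have hcore : (Cfsg.pPrimeCore 2 ↥(centralizer ({t} : Set G))).map (centralizer ({t} : Set G)).subtype ≤ M :=
    (core_le_join hE' ht ht1).trans le_normalizer
  -- Frattini
  suffices hnorm : ∀ c : ↥(centralizer ({t} : Set G)), c ∈ normalizer (Q : Set ↥(centralizer ({t} : Set G))) → (c : G) ∈ M by
    intro x hx
    have hfr := Sylow.normalizer_sup_eq_top P
    rw [← hQ] at hfr
    have hKle : K ≤ Cfsg.pPrimeCore 2 ↥(centralizer ({t} : Set G)) ⊔ Q := by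
      intro k hk
      have h1 := sylow_pPrimePCore_map (p := 2) P
      obtain ⟨q, hq, hqk⟩ := (h1.symm ▸ (show QuotientGroup.mk' (Cfsg.pPrimeCore 2 ↥(centralizer ({t} : Set G))) k ∈
        Cfsg.pCore 2 (↥(centralizer ({t} : Set G)) ⧸ Cfsg.pPrimeCore 2 ↥(centralizer ({t} : Set G))) from hk) :
          QuotientGroup.mk' (Cfsg.pPrimeCore 2 ↥(centralizer ({t} : Set G))) k ∈ Q.map (toModCore 2 ↥(centralizer ({t} : Set G))))
      have h2 : k * q⁻¹ ∈ Cfsg.pPrimeCore 2 ↥(centralizer ({t} : Set G)) := by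
        rw [← QuotientGroup.eq_one_iff, QuotientGroup.mk_mul, QuotientGroup.mk_inv]
        have hqk' : (q : ↥(centralizer ({t} : Set G)) ⧸ Cfsg.pPrimeCore 2 ↥(centralizer ({t} : Set G))) = (k : ↥(centralizer ({t} : Set G)) ⧸ Cfsg.pPrimeCore 2 ↥(centralizer ({t} : Set G))) := hqk
        rw [hqk', mul_inv_cancel]
      simpa using mul_mem (mem_sup_left (T := Q) h2) (mem_sup_right hq)
    have htop : (normalizer (Q : Set ↥(centralizer ({t} : Set G))) ⊔ K) ≤ M.subgroupOf (centralizer ({t} : Set G)) := by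
      refine sup_le (fun c hc => mem_subgroupOf.2 (hnorm c hc)) (hKle.trans (sup_le ?_ ?_))
      · exact fun o ho => mem_subgroupOf.2 (hcore ⟨o, ho, rfl⟩)
      · exact fun q hq => mem_subgroupOf.2 (hS'M (hTS ⟨q, ((hQmem q).1 hq).1, rfl⟩))
    exact mem_subgroupOf.1 (htop (hfr.symm ▸ mem_top (⟨x, hx⟩ : ↥(centralizer ({t} : Set G)))))
  intro c hc
  by_cases hbig : ∃ F, Big (Q.map (centralizer ({t} : Set G)).subtype) F
  · obtain ⟨F, hF⟩ := hbig
    have hQS : Q.map (centralizer ({t} : Set G)).subtype ≤ (S' : Subgroup G) := by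
      rintro _ ⟨q, hq, rfl⟩
      exact hTS ⟨q, ((hQmem q).1 hq).1, rfl⟩
    refine mem_normalizer_join hG hE' ?_ (hF.mono hQS)
    rintro _ ⟨f, hf, rfl⟩
    obtain ⟨q, hq, rfl⟩ := hF.2.2 hf
    exact hQS ⟨c * q * c⁻¹, (mem_normalizer_iff.1 hc q).1 hq, rfl⟩
  refine normalizer_le hG hE' ?_
  have hmove : ∀ x ∈ zSub S', ∃ hq : (c : G) * x * (c : G)⁻¹ ∈ (centralizer ({t} : Set G)),
      (⟨_, hq⟩ : ↥(centralizer ({t} : Set G))) ∈ Q ∧ ∀ s ∈ Q, s * ⟨_, hq⟩ = ⟨_, hq⟩ * s := by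
    intro x hx
    obtain ⟨hxC, hxQ⟩ := hzQ x hx
    refine ⟨(c * ⟨x, hxC⟩ * c⁻¹).2, (mem_normalizer_iff.1 hc _).1 hxQ, fun s hs => ?_⟩
    have hs' : c⁻¹ * s * c ∈ Q := by
      have := (mem_normalizer_iff.1 (inv_mem hc) s).1 hs
      simpa using this
    have h1 : (c⁻¹ * s * c) * ⟨x, hxC⟩ = ⟨x, hxC⟩ * (c⁻¹ * s * c) :=
      Subtype.ext (hx.2.2 _ (hTS ⟨_, ((hQmem _).1 hs').1, rfl⟩))
    show s * (c * ⟨x, hxC⟩ * c⁻¹) = c * ⟨x, hxC⟩ * c⁻¹ * s
    calc s * (c * ⟨x, hxC⟩ * c⁻¹) = c * ((c⁻¹ * s * c) * ⟨x, hxC⟩) * c⁻¹ := by group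
      _ = c * (⟨x, hxC⟩ * (c⁻¹ * s * c)) * c⁻¹ := by rw [h1]
      _ = c * ⟨x, hxC⟩ * c⁻¹ * s := by group
  -- involutions central in `Q` lie in the span of `t` and any central involution
  have hspan : ∀ x ∈ zSub S', ∀ w ∈ zSub S', ∀ y : G, x ≠ 1 → w ≠ 1 → x ≠ w → ∀ hy : y ∈ (centralizer ({t} : Set G)),
      (⟨y, hy⟩ : ↥(centralizer ({t} : Set G))) ∈ Q → (∀ s ∈ Q, s * ⟨y, hy⟩ = ⟨y, hy⟩ * s) → y ^ 2 = 1 →
      y = 1 ∨ y = x ∨ y = w ∨ y = x * w := by
    intro x hx w hw y hx1 hw1 hxw hy hyQ hyc hy2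
    by_contra hne
    push Not at hne
    obtain ⟨hxC, hxQ⟩ := hzQ x hx
    obtain ⟨hwC, hwQ⟩ := hzQ w hw
    obtain ⟨F, hF, -, -, -⟩ := big_of_three (P := Q.map (centralizer ({t} : Set G)).subtype) ⟨_, hxQ, rfl⟩ ⟨_, hwQ, rfl⟩
      ⟨_, hyQ, rfl⟩ hx.2.1 hw.2.1 hy2 (hw.2.2 x hx.1) (congrArg Subtype.val (hyc _ hxQ) :)
      (congrArg Subtype.val (hyc _ hwQ) :) hx1 hw1 hxw hne.1 hne.2.1 hne.2.2.1 hne.2.2.2
    exact hbig ⟨F, hF⟩
  refine eq_smul_of_centralizes hG fun x hx => ?_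
  obtain ⟨hq, hqQ, hqc⟩ := hmove x hx
  have hq2 : ((c : G) * x * (c : G)⁻¹) ^ 2 = 1 := by rw [conj_pow, hx.2.1, mul_one, mul_inv_cancel]
  rcases zSub_cases hG.even S' with ⟨z, hz⟩ | ⟨z₁, hz₁, z₂, hz₂, h1, h2, hne⟩
  swap
  · rcases hspan z₁ hz₁ z₂ hz₂ _ h1 h2 hne hq hqQ hqc hq2 with e | e | e | e <;> rw [e]
    exacts [one_mem _, hz₁, hz₂, mul_mem hz₁ hz₂]
  rcases hz.uniq x hx with rfl | rfl
  · simp
  have hct : (c : G) * t = t * (c : G) := mem_centralizer_singleton_iff.1 c.2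
  by_cases htz : t = x
  · rw [← htz, hct, mul_inv_cancel_right, htz]; exact hx
  -- the images of the central involution under `N(Q)` are `x` and `t * x`
  have hsp : ∀ d : ↥(centralizer ({t} : Set G)), d ∈ normalizer (Q : Set ↥(centralizer ({t} : Set G))) →
      (d : G) * x * (d : G)⁻¹ = x ∨ (d : G) * x * (d : G)⁻¹ = t * x := by
    intro d hd
    obtain ⟨hxC, hxQ⟩ := hzQ x hx
    have hdQ := (mem_normalizer_iff.1 hd _).1 hxQ
    have hdt : (d : G) * t = t * (d : G) := mem_centralizer_singleton_iff.1 d.2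
    set y := (d : G) * x * (d : G)⁻¹ with hy
    have hy2 : y ^ 2 = 1 := by rw [hy, conj_pow, hx.2.1, mul_one, mul_inv_cancel]
    by_contra hne
    push Not at hne
    have hy1 : y ≠ 1 := fun e => hz.ne (conj_eq_one_iff.1 e)
    have hyt : y ≠ t := fun e => by
      have h1 := congrArg (fun w => (d : G)⁻¹ * (w * (d : G))) e
      have h2 : x = (d : G)⁻¹ * (t * (d : G)) := by simpa [hy, mul_assoc] using h1
      exact htz (h2.trans ((congrArg _ hdt.symm).trans (inv_mul_cancel_left _ _))).symm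
    obtain ⟨F, hF, -, -, -⟩ := big_of_three (P := Q.map (centralizer ({t} : Set G)).subtype) ⟨_, htQ, rfl⟩ ⟨_, hxQ, rfl⟩
      ⟨_, hdQ, rfl⟩ ht2 hx.2.1 hy2 (hx.2.2 t (hE'.2.2 ht))
      (mem_centralizer_singleton_iff.1 (show y ∈ centralizer ({t} : Set G) from (d * ⟨x, hxC⟩ * d⁻¹).2)).symm
      (hx.2.2 y (hTS ⟨_, ((hQmem _).1 hdQ).1, rfl⟩)).symm ht1 hz.ne htz hy1 hyt hne.1 hne.2
    exact hbig ⟨F, hF⟩
  suffices (c : G) * x * (c : G)⁻¹ = x by rw [this]; exact hx
  refine (hsp c hc).resolve_right fun hmv => ?_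
  -- a two-element moving the central involution
  obtain ⟨k, m, hm, hord⟩ := Nat.exists_eq_pow_mul_and_not_dvd (orderOf_pos c).ne' 2 (by norm_num)
  have htx : t * x ≠ x := fun e => ht1 (by simpa using e)
  have hswap : (c : G) * (t * x) * (c : G)⁻¹ = x := by
    have hyy : (t * x) * (t * x) = 1 := by
      rw [mul_assoc, ← mul_assoc x t, ← hx.2.2 t (hE'.2.2 ht), mul_assoc t x, ← pow_two x, hx.2.1, mul_one,
        ← pow_two, ht2]
    calc (c : G) * (t * x) * (c : G)⁻¹ = t * ((c : G) * x * (c : G)⁻¹) := by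
          rw [← mul_assoc (c : G) t, hct]; group
      _ = x := by rw [hmv, ← mul_assoc, ← pow_two, ht2, one_mul]
  have hpow : ∀ j : ℕ, ((c : G) ^ (2 * j + 1)) * x * ((c : G) ^ (2 * j + 1))⁻¹ = t * x := by
    intro j
    induction j with
    | zero => simpa using hmv
    | succ j ih =>
      have e : (c : G) ^ (2 * (j + 1) + 1) = c * (c * (c : G) ^ (2 * j + 1)) := by
        rw [← pow_succ', ← pow_succ']; congr 1
      rw [e]
      calc (c : G) * (c * (c : G) ^ (2 * j + 1)) * x * ((c : G) * (c * (c : G) ^ (2 * j + 1)))⁻¹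
          = (c : G) * ((c : G) * ((c : G) ^ (2 * j + 1) * x * ((c : G) ^ (2 * j + 1))⁻¹) * (c : G)⁻¹) *
              (c : G)⁻¹ := by group
        _ = t * x := by rw [ih, hswap, hmv]
  obtain ⟨j, rfl⟩ : ∃ j, m = 2 * j + 1 := ⟨m / 2, by omega⟩
  set d : ↥(centralizer ({t} : Set G)) := c ^ (2 * j + 1) with hd
  have hd2 : d ^ 2 ^ k = 1 := by rw [hd, ← pow_mul, mul_comm, ← hord, pow_orderOf_eq_one]
  have hdN : d ∈ normalizer (Q : Set ↥(centralizer ({t} : Set G))) := pow_mem hc _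
  have hTN : (T : Subgroup ↥(centralizer ({t} : Set G))) ≤ normalizer (Q : Set ↥(centralizer ({t} : Set G))) := by
    have hconj : ∀ s ∈ (T : Subgroup ↥(centralizer ({t} : Set G))), ∀ q ∈ Q, s * q * s⁻¹ ∈ Q := fun s hs q hq =>
      (hQmem _).2 ⟨mul_mem (mul_mem hs ((hQmem q).1 hq).1) (inv_mem hs),
        Normal.conj_mem inferInstance q ((hQmem q).1 hq).2 s⟩
    exact fun s hs => mem_normalizer_iff.2 fun q => ⟨hconj s hs q, fun h => by
      simpa [mul_assoc] using hconj s⁻¹ (inv_mem hs) _ h⟩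
  set N := normalizer (Q : Set ↥(centralizer ({t} : Set G))) with hN
  have hdp : IsPGroup 2 ↥(zpowers (⟨d, hdN⟩ : ↥N)) := by
    obtain ⟨i, -, hi⟩ := (Nat.dvd_prime_pow Nat.prime_two).1 (orderOf_dvd_of_pow_eq_one hd2)
    exact isPGroup_zpowers_of_orderOf (k := i) (by rw [← orderOf_coe, ← hi])
  obtain ⟨P', hP'⟩ := hdp.exists_le_sylow
  obtain ⟨n, hn⟩ := MulAction.exists_smul_eq ↥N P' (T.subtype hTN)
  have hnT : (n : ↥(centralizer ({t} : Set G))) * d * (n : ↥(centralizer ({t} : Set G)))⁻¹ ∈ (T : Subgroup ↥(centralizer ({t} : Set G))) := by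
    have h1 : n * ⟨d, hdN⟩ * n⁻¹ ∈ ((T.subtype hTN : Sylow 2 ↥N) : Subgroup ↥N) := by
      rw [← hn, mem_smul_iff]
      simpa [mul_assoc] using hP' (mem_zpowers (⟨d, hdN⟩ : ↥N))
    exact mem_subgroupOf.1 h1
  have hfix : ((n : ↥(centralizer ({t} : Set G))) : G) * d * ((n : ↥(centralizer ({t} : Set G))) : G)⁻¹ * x = x * (((n : ↥(centralizer ({t} : Set G))) : G) * d * ((n : ↥(centralizer ({t} : Set G))) : G)⁻¹) :=
    hx.2.2 _ (hTS ⟨_, hnT, rfl⟩)
  have hdfix : (d : G) * (((n : ↥(centralizer ({t} : Set G))) : G)⁻¹ * x * ((n : ↥(centralizer ({t} : Set G))) : G)) * (d : G)⁻¹ =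
      ((n : ↥(centralizer ({t} : Set G))) : G)⁻¹ * x * ((n : ↥(centralizer ({t} : Set G))) : G) := by
    calc (d : G) * (((n : ↥(centralizer ({t} : Set G))) : G)⁻¹ * x * ((n : ↥(centralizer ({t} : Set G))) : G)) * (d : G)⁻¹
        = ((n : ↥(centralizer ({t} : Set G))) : G)⁻¹ * ((((n : ↥(centralizer ({t} : Set G))) : G) * d * ((n : ↥(centralizer ({t} : Set G))) : G)⁻¹) * x *
            (((n : ↥(centralizer ({t} : Set G))) : G) * d * ((n : ↥(centralizer ({t} : Set G))) : G)⁻¹)⁻¹) * ((n : ↥(centralizer ({t} : Set G))) : G) := by group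
      _ = _ := by rw [hfix, mul_inv_cancel_right]
  have hdx : (d : G) * x * (d : G)⁻¹ = t * x := by
    rw [hd, SubgroupClass.coe_pow]; exact hpow j
  rcases hsp (n : ↥(centralizer ({t} : Set G)))⁻¹ (inv_mem n.2) with e | e <;> simp only [InvMemClass.coe_inv, inv_inv] at e <;>
    rw [e] at hdfix
  · exact htx (hdx.symm.trans hdfix)
  · have hdt : (d : G) * t = t * (d : G) := mem_centralizer_singleton_iff.1 d.2
    have h1 : (d : G) * (t * x) * (d : G)⁻¹ = t * ((d : G) * x * (d : G)⁻¹) := by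
      rw [← mul_assoc (d : G) t, hdt]; group
    rw [h1, hdx, ← mul_assoc, ← pow_two, ht2, one_mul] at hdfix
    exact htx hdfix.symm

/-- The case of rank at least three. -/
theorem large_rank (hG : Ctx G) {S : Sylow 2 G} {E : Subgroup G} (hE : Big (S : Subgroup G) E)
    (hH : ∀ U : Sylow 2 G, (U : Subgroup G) ⊓ Cfsg.pResidual 2 G ≠ ⊥) :
    (∃ M : Subgroup ↥(Cfsg.pResidual 2 G), Cfsg.IsStronglyEmbedded M) ∨
      Cfsg.IsCharacteristicTwoType ↥(Cfsg.pResidual 2 G ⊔ zSub S) := by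
  haveI : Fact (Nat.Prime 2) := ⟨Nat.prime_two⟩
  by_cases hW : coreJoin E = ⊥
  · refine Or.inr ?_
    set X := Cfsg.pResidual 2 G ⊔ zSub S with hX
    haveI : (Cfsg.pResidual 2 G).Normal := CfsgLib.Transfer.pResidual_normal
    haveI hXn : X.Normal := by
      rw [← normalizer_eq_top_iff, eq_top_iff, ← sup_pResidual S]
      refine sup_le (fun s hs => ?_) ((le_sup_left : _ ≤ X).trans le_normalizer)
      rw [← map_conj_eq_iff, hX, Subgroup.map_sup, map_conj_eq_iff.2 ((normalizer_eq_top_iff.2 ‹(Cfsg.pResidual 2 G).Normal›).symm ▸ mem_top s)]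
      congr 1
      refine map_conj_eq_iff.2 (Subgroup.centralizer_le_normalizer _ (mem_centralizer_iff.2 fun x hx => ?_))
      exact ((hx.2.2 s hs).symm)
    refine charTwo hG (X := X) ?_ ?_
    · obtain ⟨z, hz, hz1, hzH⟩ := exists_central_mem S (hH S)
      rw [← orderOf_eq_prime (p := 2) hz.2.1 hz1]
      exact Subgroup.orderOf_dvd_natCard X (mem_sup_left hzH)
    intro t htX ht
    have ht2 : t ^ 2 = 1 := ht ▸ pow_orderOf_eq_one t
    obtain ⟨m, -, hm⟩ := exists_conj_mem S (M := ⊤) le_top (mem_top t) ht2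
    obtain ⟨g, F, hF, hgF⟩ := exists_big_conj hG hE hm (by rw [conj_pow, ht2, mul_one, mul_inv_cancel])
      (hXn.conj_mem t htX m)
    have h0 : Cfsg.centralizerPPrimeCore 2 (g * (m * t * m⁻¹) * g⁻¹) = ⊥ := by
      have h1 := core_le_join hF hgF (fun e => by
        have := conj_eq_one_iff.1 (conj_eq_one_iff.1 e)
        rw [this, orderOf_one] at ht; omega)
      rw [join_eq hG hF hE, hW] at h1
      exact le_bot_iff.1 h1
    rw [show g * (m * t * m⁻¹) * g⁻¹ = g * m * t * (g * m)⁻¹ by group,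
      CfsgLib.Comp.FunctorTriv.centralizerPPrimeCore_conj,
      map_eq_bot_iff_of_injective _ (MulEquiv.injective _)] at h0
    exact h0
  refine Or.inl ⟨_, stronglyEmbedded hH S (M := normalizer (coreJoin E : Set G)) (normalizer_le hG hE)
    (pPrimeCore_ne_bot_false hG (odd_join hG hE) hW) fun t htS htH ht => ?_⟩
  have ht2 : t ^ 2 = 1 := ht ▸ pow_orderOf_eq_one t
  have ht1 : t ≠ 1 := fun e => by rw [e, orderOf_one] at ht; omega
  set C := centralizer ({t} : Set G) with hC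
  -- a Sylow subgroup of the centralizer over that of `S`
  obtain ⟨T, hT⟩ := (S.2.comap_of_injective C.subtype C.subtype_injective).exists_le_sylow
  obtain ⟨S', hS'⟩ := (T.2.map C.subtype).exists_le_sylow
  have hST : (S : Subgroup G) ⊓ C ≤ (S' : Subgroup G) := fun x hx => hS' ⟨⟨x, hx.2⟩, hT hx.1, rfl⟩
  obtain ⟨g, F, hF, hgF⟩ := exists_big_conj hG hE htS ht2 (mem_sup_left htH)
  -- a big subgroup through `t`, moved into `T`
  set F₁ := F.map (MulAut.conj g⁻¹).toMonoidHom with hF₁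
  have hbig₁ : Big (⊤ : Subgroup G) F₁ := hF.map g⁻¹ fun _ _ => mem_top _
  have htF₁ : t ∈ F₁ := ⟨g * t * g⁻¹, hgF, by simp [mul_assoc]⟩
  have hF₁C : F₁ ≤ C := fun x hx => mem_centralizer_singleton_iff.2 (hbig₁.1.1 x hx t htF₁)
  have hF₁p : IsPGroup 2 ↥(F₁.subgroupOf C) := fun x => ⟨1, Subtype.ext (Subtype.ext (by
    simpa using hbig₁.1.2 _ (mem_subgroupOf.1 x.2)))⟩
  obtain ⟨P, hP⟩ := hF₁p.exists_le_sylow
  obtain ⟨y, hy⟩ := MulAction.exists_smul_eq ↥C P T
  have hF₂ : Big (S' : Subgroup G) (F₁.map (MulAut.conj (y : G)).toMonoidHom) := by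
    refine Big.map (P := F₁) ⟨hbig₁.1, hbig₁.2.1, le_rfl⟩ (y : G) fun x hx => hS' ?_
    refine ⟨y * ⟨x, hF₁C hx⟩ * y⁻¹, ?_, rfl⟩
    rw [SetLike.mem_coe, ← hy, mem_smul_iff]
    simpa [mul_assoc] using hP (show (⟨x, hF₁C hx⟩ : ↥C) ∈ F₁.subgroupOf C from hx)
  have htF₂ : t ∈ F₁.map (MulAut.conj (y : G)).toMonoidHom := ⟨t, htF₁, by
    show (y : G) * t * (y : G)⁻¹ = t
    rw [mem_centralizer_singleton_iff.1 y.2, mul_inv_cancel_right]⟩
  rw [join_eq_of_centralizer hG hE hF₂ htS htF₂ ht1 hST]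
  exact centralizer_le_normalizer_join hG hF₂ htF₂ ht1 hS'

end CfsgLib.Comp.SolvCent
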