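import Cfsg.Agent.Lib.Comp.SolvCent.Rank
import Cfsg.Agent.Lib.Comp.SolvCent.CharTwo
import Cfsg.Agent.Lib.Transfer.MaxClass
import Cfsg.Agent.Lib.Transfer.MaxClassTwo

/-!
# Rank at most two: one class of involutions
-/

set_option autoImplicit false
set_option linter.style.haveILetI false
set_option linter.unusedSectionVars false

namespace CfsgLib.Comp.SolvCent

open Subgroup
open CfsgLib.InvChar.ConstrainedSignalizer (El)

universe u

variable {G : Type u} [Group G] [Finite G]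

/-- All involutions of the Sylow subgroup in `O^2(G)` lying in a subgroup of index at most two are
conjugate to `z`; then so are all of them. -/
theorem conj_of_index_two {S : Sylow 2 G} {z : G} {A : Subgroup G}
    (hidx : ∀ s ∈ (S : Subgroup G), ∀ t ∈ (S : Subgroup G), s ∉ A → t ∉ A → s * t ∈ A)
    (hA : ∀ x ∈ (S : Subgroup G), x ∈ A → x ∈ Cfsg.pResidual 2 G → orderOf x = 2 → IsConj z x)
    {t : G} (htS : t ∈ (S : Subgroup G)) (htH : t ∈ Cfsg.pResidual 2 G) (ht : orderOf t = 2) :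
    IsConj z t := by
  haveI : Fact (Nat.Prime 2) := ⟨Nat.prime_two⟩
  by_cases htA : t ∈ A
  · exact hA t htS htA htH ht
  set H := Cfsg.pResidual 2 G with hH
  haveI : H.Normal := CfsgLib.Transfer.pResidual_normal
  obtain ⟨R, hRdef⟩ := CfsgLib.Transfer.exists_sylow_eq_subgroupOf S H
  let Q : Subgroup ↥H := (R : Subgroup ↥H) ⊓ A.subgroupOf H
  have hR : ∀ x : ↥H, x ∈ (R : Subgroup ↥H) ↔ (x : G) ∈ (S : Subgroup G) := fun x => by
    rw [hRdef, mem_subgroupOf]
  have hQ : ∀ x : ↥H, x ∈ Q ↔ (x : G) ∈ (S : Subgroup G) ∧ (x : G) ∈ A := fun x => by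
    rw [mem_inf, hR, mem_subgroupOf]
  have hQi : Q.relIndex (R : Subgroup ↥H) = 2 := by
    rw [relIndex, index_eq_two_iff]
    refine ⟨⟨⟨t, htH⟩, (hR _).2 htS⟩, fun b => ?_⟩
    rw [mem_subgroupOf, mem_subgroupOf, hQ, hQ]
    have hb : ((b : ↥H) : G) ∈ (S : Subgroup G) := (hR _).1 b.2
    simp only [Subgroup.coe_mul]
    by_cases hbA : ((b : ↥H) : G) ∈ A
    · refine Or.inr ⟨⟨hb, hbA⟩, fun hcon => htA ?_⟩
      simpa using mul_mem (inv_mem hbA) hcon.2
    · exact Or.inl ⟨⟨mul_mem hb htS, hidx _ hb t htS hbA htA⟩, fun hcon => hbA hcon.2⟩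
  have ht2 : (⟨t, htH⟩ : ↥H) ^ 2 = 1 := Subtype.ext (by
    show t ^ 2 = 1
    rw [← ht]; exact pow_orderOf_eq_one t)
  rcases CfsgLib.Transfer.thompson_transfer_involution R inf_le_left hQi ht2 ((hR _).2 htS) with
    ⟨M, hMn, hMi, hMt⟩ | ⟨g, hg⟩
  · refine absurd ?_ hMt
    have hle : H ≤ M.map H.subtype := by
      refine (closure_le _).2 fun x hx => ?_
      have hxH : x ∈ H := subset_closure hx
      refine ⟨⟨x, hxH⟩, ?_, rfl⟩
      haveI := hMn
      rw [SetLike.mem_coe, ← QuotientGroup.eq_one_iff, ← orderOf_eq_one_iff]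
      refine Nat.eq_one_of_dvd_coprimes (a := orderOf x) (b := 2) hx ?_ ?_
      · exact (orderOf_map_dvd (QuotientGroup.mk' M) _).trans (dvd_of_eq (orderOf_coe _).symm)
      · rw [← hMi, index_eq_card]; exact orderOf_dvd_natCard _
    obtain ⟨y, hy, hye⟩ := hle htH
    exact (Subtype.ext hye : y = ⟨t, htH⟩) ▸ hy
  · obtain ⟨hgS, hgA⟩ := (hQ _).1 hg
    simp only [Subgroup.coe_mul, InvMemClass.coe_inv] at hgS hgA
    have hord : orderOf ((g : G) * t * (g : G)⁻¹) = 2 := ((MulAut.conj (g : G)).orderOf_eq t).trans ht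
    exact (hA _ hgS hgA (Normal.conj_mem inferInstance t htH _) hord).trans
      (isConj_iff.2 ⟨(g : G)⁻¹, by group⟩)

/-- A subgroup of index at most two of the elements centralizing an element with two images. -/
theorem mul_mem_centralizer {S : Subgroup G} {z u : G} (hzz : z * z = 1)
    (hz : ∀ s ∈ S, s * z = z * s) (hconj : ∀ s ∈ S, s * u * s⁻¹ = u ∨ s * u * s⁻¹ = z * u)
    {s t : G} (hs : s ∈ S) (ht : t ∈ S) (hsu : s * u ≠ u * s) (htu : t * u ≠ u * t) :
    s * t * u = u * (s * t) := by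
  have h1 := (hconj s hs).resolve_left fun r => hsu (mul_inv_eq_iff_eq_mul.1 r)
  have h2 := (hconj t ht).resolve_left fun r => htu (mul_inv_eq_iff_eq_mul.1 r)
  calc s * t * u = s * (t * u * t⁻¹) * t := by group
    _ = s * z * u * t := by rw [h2]; group
    _ = z * (s * u * s⁻¹) * (s * t) := by rw [hz s hs]; group
    _ = z * z * u * (s * t) := by rw [h1]; group
    _ = u * (s * t) := by rw [hzz, one_mul]

/-- An element of a Sylow subgroup outside the centralizer of a noncentral element normalizes it. -/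
theorem exists_normalizing (S : Sylow 2 G) {Q : Subgroup G} (hQ : Q ≤ (S : Subgroup G))
    {t : G} (htS : t ∈ (S : Subgroup G)) (htQ : t ∉ Q) :
    ∃ s ∈ (S : Subgroup G), s ∉ Q ∧ s ∈ normalizer (Q : Set G) := by
  haveI : Fact (Nat.Prime 2) := ⟨Nat.prime_two⟩
  haveI : Group.IsNilpotent ↥(S : Subgroup G) := S.2.isNilpotent
  have hlt : Q.subgroupOf (S : Subgroup G) < ⊤ :=
    lt_top_iff_ne_top.2 fun e => htQ (subgroupOf_eq_top.1 e htS)
  obtain ⟨x, hx, hxn⟩ := SetLike.exists_of_lt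
    (Group.normalizerCondition_of_isNilpotent (Q.subgroupOf (S : Subgroup G)) hlt)
  refine ⟨x, x.2, fun h => hxn (mem_subgroupOf.2 h), mem_normalizer_iff.2 fun s => ⟨fun hs => ?_, fun hs => ?_⟩⟩
  · exact mem_subgroupOf.1 ((mem_normalizer_iff.1 hx ⟨s, hQ hs⟩).1 (mem_subgroupOf.2 hs))
  · have hsS : s ∈ (S : Subgroup G) := by
      have := mul_mem (mul_mem (inv_mem x.2) (hQ hs)) x.2
      simpa [mul_assoc] using this
    exact mem_subgroupOf.1 ((mem_normalizer_iff.1 hx ⟨s, hsS⟩).2 (mem_subgroupOf.2 hs))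

/-- In rank at most two a conjugate of the central involution makes every involution of `O^2(G)`
conjugate to it. -/
theorem one_class (hG : Ctx G) {S : Sylow 2 G} {z : G} (hz : One S z) (hzH : z ∈ Cfsg.pResidual 2 G)
    (hsmall : ∀ F, ¬ Big (S : Subgroup G) F)
    {g : G} (huS : g * z * g⁻¹ ∈ (S : Subgroup G)) (hne : g * z * g⁻¹ ≠ z)
    {t : G} (htS : t ∈ (S : Subgroup G)) (htH : t ∈ Cfsg.pResidual 2 G) (ht : orderOf t = 2) :
    IsConj z t := by
  haveI : Fact (Nat.Prime 2) := ⟨Nat.prime_two⟩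
  classical
  set u := g * z * g⁻¹ with hu
  have hu' : One (g • S) u := hz.smul g
  set S' : Sylow 2 G := g • S with hS'
  have hu2 : u ^ 2 = 1 := hu'.mem.2.1
  have hu1 : u ≠ 1 := hu'.ne
  have hzc : ∀ s ∈ (S : Subgroup G), s * z = z * s := hz.mem.2.2
  have huz : u * z = z * u := hzc u huS
  have hzz : z * z = 1 := hz.mul_self
  have huu : u * u = 1 := hu'.mul_self
  set Q := (S : Subgroup G) ⊓ centralizer ({u} : Set G) with hQ
  have hQS' : Q ≤ (S' : Subgroup G) := fun x hx => hG.two_mem_of_commute hu' (exists_pow_of_mem S hx.1)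
    (mem_centralizer_singleton_iff.1 hx.2)
  have hS'Q : ∀ x ∈ (S' : Subgroup G), x * z = z * x → x ∈ Q := fun x hx hxz =>
    ⟨hG.two_mem_of_commute hz (exists_pow_of_mem S' hx) hxz,
      mem_centralizer_singleton_iff.2 (hu'.mem.2.2 x hx)⟩
  have hzQ : z ∈ Q := ⟨hz.mem.1, mem_centralizer_singleton_iff.2 huz.symm⟩
  have hinv : ∀ x ∈ Q, x ^ 2 = 1 → x = 1 ∨ x = z ∨ x = u ∨ x = z * u := by
    intro x hx hx2
    by_contra hcon
    push Not at hcon
    obtain ⟨F, hF, -, -, -⟩ := big_of_three hz.mem.1 huS hx.1 hz.mem.2.1 hu2 hx2 huz.symm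
      (hzc x hx.1).symm (mem_centralizer_singleton_iff.1 hx.2).symm hz.ne hu1 (Ne.symm hne) hcon.1 hcon.2.1
      hcon.2.2.1 hcon.2.2.2
    exact hsmall F hF
  -- an element of `S` moving `u`, and one of `S'` moving `z`
  have hmove : ∀ s ∈ (S : Subgroup G), s ∈ normalizer (Q : Set G) → s * u ≠ u * s →
      s * u * s⁻¹ = z * u := by
    intro s hs hsN hsu
    rcases hinv _ ((mem_normalizer_iff.1 hsN u).1 ⟨huS, mem_centralizer_singleton_iff.2 rfl⟩)
      (by rw [conj_pow, hu2, mul_one, mul_inv_cancel]) with e | e | e | e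
    · exact absurd (conj_eq_one_iff.1 e) hu1
    · refine absurd ?_ hne
      calc u = s⁻¹ * (s * u * s⁻¹) * s := by group
        _ = s⁻¹ * (z * s) := by rw [e]; group
        _ = s⁻¹ * (s * z) := by rw [hzc s hs]
        _ = z := by group
    · exact absurd (mul_inv_eq_iff_eq_mul.1 e) hsu
    · exact e
  obtain ⟨w, hwS, hwu⟩ : ∃ w ∈ (S : Subgroup G), w * u ≠ u * w := by
    by_contra hcon
    push Not at hcon
    exact hne ((hz.uniq u ⟨huS, hu2, hcon⟩).resolve_left hu1)
  obtain ⟨s, hsS, hsQ, hsN⟩ := exists_normalizing S (inf_le_left : Q ≤ _) hwS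
    (fun h => hwu (mem_centralizer_singleton_iff.1 h.2))
  have hsu : s * u * s⁻¹ = z * u :=
    hmove s hsS hsN fun e => hsQ ⟨hsS, mem_centralizer_singleton_iff.2 e⟩
  obtain ⟨w', hw'S, hw'z⟩ : ∃ w ∈ (S' : Subgroup G), w * z ≠ z * w := by
    by_contra hcon
    push Not at hcon
    have hzS' : z ∈ (S' : Subgroup G) := hQS' hzQ
    exact hne ((hu'.uniq z ⟨hzS', hz.mem.2.1, hcon⟩).resolve_left hz.ne).symm
  obtain ⟨s', hs'S, hs'Q, hs'N⟩ := exists_normalizing S' hQS' hw'S
    (fun h => hw'z (hzc w' h.1))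
  have hs'z : s' * z * s'⁻¹ = z * u := by
    rcases hinv _ ((mem_normalizer_iff.1 hs'N z).1 hzQ)
      (by rw [conj_pow, hz.mem.2.1, mul_one, mul_inv_cancel]) with e | e | e | e
    · exact absurd (conj_eq_one_iff.1 e) hz.ne
    · exact absurd (hS'Q s' hs'S (mul_inv_eq_iff_eq_mul.1 e)) hs'Q
    · exfalso
      refine hne ?_
      calc u = s'⁻¹ * (s' * u) := by group
        _ = s'⁻¹ * (u * s') := by rw [hu'.mem.2.2 s' hs'S]
        _ = z := by rw [← e]; group
    · exact e
  have hzzu : IsConj z (z * u) := isConj_iff.2 ⟨s', hs'z⟩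
  have hzu : IsConj z u := isConj_iff.2 ⟨g, rfl⟩
  by_cases hnorm : ∀ x ∈ (S : Subgroup G), x * u * x⁻¹ = u ∨ x * u * x⁻¹ = z * u
  · -- the four-group is normal
    refine conj_of_index_two (A := centralizer ({u} : Set G)) (fun a ha b hb hau hbu => ?_)
      (fun x hxS hxA _ hxo => ?_) htS htH ht
    · exact mem_centralizer_singleton_iff.2 (mul_mem_centralizer hzz hzc hnorm ha hb
        (fun e => hau (mem_centralizer_singleton_iff.2 e)) (fun e => hbu (mem_centralizer_singleton_iff.2 e)))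
    · rcases hinv x ⟨hxS, hxA⟩ (hxo ▸ pow_orderOf_eq_one x) with e | e | e | e
      · rw [e, orderOf_one] at hxo; omega
      · rw [e]
      · rw [e]; exact hzu
      · rw [e]; exact hzzu
  -- otherwise the centralizer of `u` in `S` has order four
  push Not at hnorm
  obtain ⟨w₀, hw₀, hw₀1, hw₀2⟩ := hnorm
  set P := (S : Subgroup G) ⊓ normalizer (Q : Set G) with hP
  obtain ⟨x, hxS, hxP, hxN⟩ := exists_normalizing S (inf_le_left : P ≤ _) hw₀ (fun h => by
    refine hw₀2 (hmove w₀ hw₀ h.2 fun e => hw₀1 ?_)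
    rw [e, mul_inv_cancel_right])
  set v := x * u * x⁻¹ with hv
  have hQN : Q ≤ P := le_inf inf_le_left le_normalizer
  have huQ : u ∈ Q := ⟨huS, mem_centralizer_singleton_iff.2 rfl⟩
  have hvP : v ∈ P := (mem_normalizer_iff.1 hxN u).1 (hQN huQ)
  have hv2 : v ^ 2 = 1 := by rw [hv, conj_pow, hu2, mul_one, mul_inv_cancel]
  have hxz : x * z * x⁻¹ = z := by rw [hzc x hxS, mul_inv_cancel_right]
  have hvQ : v ∉ Q := by
    intro h
    refine hxP ⟨hxS, ?_⟩
    have hv' : v = u ∨ v = z * u := by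
      rcases hinv v h hv2 with e | e | e | e
      · exact absurd (conj_eq_one_iff.1 e) hu1
      · refine absurd ?_ hne
        calc u = x⁻¹ * (x * u * x⁻¹) * x := by group
          _ = x⁻¹ * (x * z * x⁻¹) * x := by rw [← hv, e, hxz]
          _ = z := by group
      · exact Or.inl e
      · exact Or.inr e
    have hcu : ∀ y : G, y * z = z * y → (y * u = u * y ↔ y * v = v * y) := by
      intro y hyz
      rcases hv' with e | e <;> rw [e]
      rw [show y * (z * u) = z * (y * u) by rw [← mul_assoc y, hyz, mul_assoc z], mul_assoc z u y]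
      exact (mul_right_inj z).symm
    refine mem_normalizer_iff.2 fun y => ⟨fun (hy : y ∈ Q) => ?_, fun (hy : x * y * x⁻¹ ∈ Q) => ?_⟩
    · show x * y * x⁻¹ ∈ Q
      refine ⟨(S : Subgroup G).mul_mem ((S : Subgroup G).mul_mem hxS hy.1) ((S : Subgroup G).inv_mem hxS), mem_centralizer_singleton_iff.2 ?_⟩
      rw [hcu _ (hzc _ (mul_mem (mul_mem hxS hy.1) (inv_mem hxS))), hv]
      have h1 := mem_centralizer_singleton_iff.1 hy.2
      calc x * y * x⁻¹ * (x * u * x⁻¹) = x * (y * u) * x⁻¹ := by group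
        _ = x * (u * y) * x⁻¹ := by rw [h1]
        _ = x * u * x⁻¹ * (x * y * x⁻¹) := by group
    · show y ∈ Q
      have hyS : y ∈ (S : Subgroup G) := by
        have := mul_mem (mul_mem (inv_mem hxS) hy.1) hxS
        simpa [mul_assoc] using this
      refine ⟨hyS, mem_centralizer_singleton_iff.2 ?_⟩
      have h1 := (hcu _ (hzc _ hy.1)).1 (mem_centralizer_singleton_iff.1 hy.2)
      rw [hv] at h1
      calc y * u = x⁻¹ * (x * y * x⁻¹ * (x * u * x⁻¹)) * x := by group
        _ = x⁻¹ * (x * u * x⁻¹ * (x * y * x⁻¹)) * x := by rw [h1]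
        _ = u * y := by group
  -- conjugation of `v` by elements of `P`
  have hPv : ∀ p ∈ P, p * v * p⁻¹ = v ∨ p * v * p⁻¹ = z * v := by
    intro p hp
    have hp' : x⁻¹ * p * x ∈ P := by
      have := (mem_normalizer_iff.1 (inv_mem hxN) p).1 hp
      simpa only [inv_inv] using this
    have hcase : x⁻¹ * p * x * u * (x⁻¹ * p * x)⁻¹ = u ∨ x⁻¹ * p * x * u * (x⁻¹ * p * x)⁻¹ = z * u := by
      by_cases hc : x⁻¹ * p * x * u = u * (x⁻¹ * p * x)
      · left; rw [hc, mul_inv_cancel_right]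
      · exact Or.inr (hmove _ hp'.1 hp'.2 hc)
    have hpv : p * v * p⁻¹ = x * (x⁻¹ * p * x * u * (x⁻¹ * p * x)⁻¹) * x⁻¹ := by rw [hv]; group
    rcases hcase with e | e <;> rw [hpv, e]
    · exact Or.inl rfl
    · right
      calc x * (z * u) * x⁻¹ = (x * z * x⁻¹) * (x * u * x⁻¹) := by group
        _ = z * v := by rw [hxz]
  have huv : u * v ≠ v * u := fun e => hvQ ⟨hvP.1, mem_centralizer_singleton_iff.2 e.symm⟩
  -- squares in `Q` centralize `v`
  have hsq : ∀ q ∈ Q, q * q * v = v * (q * q) := by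
    intro q hq
    by_cases hqv : q * v = v * q
    · rw [mul_assoc, hqv, ← mul_assoc, hqv, mul_assoc]
    · exact mul_mem_centralizer (S := P) hzz (fun s hs => hzc s hs.1) hPv (hQN hq) (hQN hq) hqv hqv
  have hzu_v : z * u * v ≠ v * (z * u) := fun e => huv (by
    rw [mul_assoc, ← mul_assoc v, hzc v hvP.1, mul_assoc z] at e
    exact mul_left_cancel e)
  -- `Q` has exponent two
  have hexp : ∀ q ∈ Q, q ^ 2 = 1 := by
    intro q hq
    by_contra hq2
    obtain ⟨k, hk⟩ := exists_pow_of_mem S hq.1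
    have hex : ∃ k, q ^ 2 ^ k = 1 := ⟨k, hk⟩
    have h2 : 2 ≤ Nat.find hex := by
      by_contra h
      push Not at h
      refine hq2 ?_
      have h3 := Nat.find_spec hex
      interval_cases hf : Nat.find hex
      · rw [pow_zero, pow_one] at h3; rw [h3, one_pow]
      · rwa [pow_one] at h3
    obtain ⟨j, hj⟩ : ∃ j, Nat.find hex = j + 2 := ⟨Nat.find hex - 2, by omega⟩
    set r := q ^ 2 ^ j with hr
    have hrQ : r ∈ Q := pow_mem hq _
    have hr4 : (r * r) ^ 2 = 1 := by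
      rw [hr, ← pow_two, ← pow_mul, ← pow_mul, show 2 ^ j * (2 * 2) = 2 ^ (j + 2) by rw [pow_add]; norm_num, ← hj]
      exact Nat.find_spec hex
    have hr2 : r * r ≠ 1 := by
      rw [hr, ← pow_two, ← pow_mul, ← pow_succ]
      exact Nat.find_min hex (by omega)
    have hrz : r * r = z := by
      rcases hinv _ (mul_mem hrQ hrQ) hr4 with e | e | e | e
      · exact absurd e hr2
      · exact e
      · exact absurd (e ▸ hsq r hrQ) huv
      · exact absurd (e ▸ hsq r hrQ) hzu_v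
    have h1 := hsq (s' * r * s'⁻¹) ((mem_normalizer_iff.1 hs'N r).1 hrQ)
    rw [show s' * r * s'⁻¹ * (s' * r * s'⁻¹) = s' * (r * r) * s'⁻¹ by group, hrz, hs'z] at h1
    exact hzu_v h1
  have hQmem : ∀ q, q ∈ Q ↔ q = 1 ∨ q = z ∨ q = u ∨ q = z * u := fun q => ⟨fun hq => hinv q hq (hexp q hq),
    fun h => by
      rcases h with rfl | rfl | rfl | rfl
      exacts [one_mem _, hzQ, huQ, mul_mem hzQ huQ]⟩
  -- a cyclic subgroup of index two
  obtain ⟨C, hC, hCi⟩ : ∃ C : Subgroup ↥(S : Subgroup G), IsCyclic ↥C ∧ C.index = 2 := by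
    obtain ⟨U, hU, hU4, hUc, -⟩ := CfsgLib.Invol.exists_four (T := ↥(S : Subgroup G))
      (z := ⟨z, hz.mem.1⟩) (x := ⟨u, huS⟩) (Subtype.ext hzz) (Subtype.ext huu) (Subtype.ext huz.symm)
      (fun e => hz.ne (congrArg Subtype.val e)) (fun e => hu1 (congrArg Subtype.val e))
      (fun e => hne (congrArg Subtype.val e))
    have hUQ : ∀ y : ↥(S : Subgroup G), y ∈ U ↔ (y : G) ∈ Q := fun y => by
      rw [hU, hQmem]
      constructor
      · rintro (rfl | rfl | rfl | rfl)
        exacts [Or.inl rfl, Or.inr (Or.inl rfl), Or.inr (Or.inr (Or.inl rfl)), Or.inr (Or.inr (Or.inr rfl))]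
      · rintro (e | e | e | e)
        exacts [Or.inl (Subtype.ext e), Or.inr (Or.inl (Subtype.ext e)), Or.inr (Or.inr (Or.inl (Subtype.ext e))),
          Or.inr (Or.inr (Or.inr (Subtype.ext e)))]
    obtain ⟨n, hn⟩ := IsPGroup.iff_card.1 S.2
    have hCU : centralizer (U : Set ↥(S : Subgroup G)) = U := by
      refine le_antisymm (fun y hy => (hUQ y).2 ⟨y.2, mem_centralizer_singleton_iff.2 ?_⟩) fun y hy => ?_
      · exact (congrArg Subtype.val (mem_centralizer_iff.1 hy ⟨u, huS⟩ ((hUQ _).2 huQ))).symm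
      · exact mem_centralizer_iff.2 fun w hw => congrArg Subtype.val (hUc.is_comm.comm (⟨w, hw⟩ : ↥U) ⟨y, hy⟩)
    have hclass := CfsgLib.Transfer.maxClass_of_self_centralizing hn U (by rw [hU4]; norm_num) hCU
    refine CfsgLib.Transfer.exists_cyclic_index_two ?_ hn hclass
    have h1 : Nat.card U ∣ Nat.card ↥(S : Subgroup G) := card_subgroup_dvd_card U
    have h2 : U ≠ ⊤ := fun e => hvQ ((hUQ ⟨v, hvP.1⟩).1 (e ▸ mem_top _))
    have h3 : Nat.card U < Nat.card ↥(S : Subgroup G) := by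
      refine lt_of_le_of_ne (Nat.le_of_dvd Nat.card_pos h1) fun e => h2 (Subgroup.eq_top_of_card_eq U e)
    rw [hU4, hn] at h3
    by_contra hlt
    have : 2 ^ n ≤ 2 ^ 2 := Nat.pow_le_pow_right (by norm_num) (by omega)
    omega
  refine conj_of_index_two (A := C.map (S : Subgroup G).subtype) (fun a ha b hb hau hbu => ?_)
    (fun y hyS hyA hyH hyo => ?_) htS htH ht
  · refine ⟨⟨a, ha⟩ * ⟨b, hb⟩, (Subgroup.mul_mem_iff_of_index_two hCi).2 (iff_of_false ?_ ?_), rfl⟩
    · exact fun h => hau ⟨_, h, rfl⟩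
    · exact fun h => hbu ⟨_, h, rfl⟩
  · obtain ⟨y', hy', rfl⟩ := hyA
    have hyo' : orderOf y' = 2 := by rw [← orderOf_coe]; exact hyo
    by_cases hzC : (⟨z, hz.mem.1⟩ : ↥(S : Subgroup G)) ∈ C
    · have := CfsgLib.InvChar.EarlyCharTwo.eq_of_cyclic hC
        (x := (⟨_, hy'⟩ : ↥C)) (y := ⟨_, hzC⟩) (by rw [← orderOf_coe]; exact hyo')
        (by rw [← orderOf_coe, ← orderOf_coe]; exact hz.order)
      have e : ((S : Subgroup G).subtype y') = z := congrArg (fun w : ↥C => ((w : ↥(S : Subgroup G)) : G)) this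
      rw [e]
    · -- a conjugate of `z` lies in the cyclic subgroup
      exfalso
      have hCn : C.Normal := normal_of_index_eq_two hCi
      have hne' : C ≠ ⊥ := fun e => by
        rw [e, SetLike.mem_coe, mem_bot] at hy'
        rw [hy', orderOf_one] at hyo'
        omega
      have hm := CfsgLib.InvChar.ConstrainedSignalizer.meets_center S.2 hne'
      haveI : Nontrivial ↥(C ⊓ center ↥(S : Subgroup G)) := (Subgroup.nontrivial_iff_ne_bot _).2 hm
      obtain ⟨c, hc⟩ := exists_prime_orderOf_dvd_card' (G := ↥(C ⊓ center ↥(S : Subgroup G))) 2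
        ((S.2.to_subgroup _).card_eq_or_dvd.resolve_left Finite.one_lt_card.ne')
      have hcZ : ((c : ↥(S : Subgroup G)) : G) ∈ zSub S := ⟨(c : ↥(S : Subgroup G)).2, by
        have h1 := pow_orderOf_eq_one c
        rw [hc] at h1
        exact congrArg (fun w : ↥(C ⊓ center ↥(S : Subgroup G)) => ((w : ↥(S : Subgroup G)) : G)) h1,
        fun s hs => congrArg Subtype.val (mem_center_iff.1 c.2.2 ⟨s, hs⟩)⟩
      refine hzC ?_
      rcases hz.uniq _ hcZ with e | e
      · rw [show c = 1 from Subtype.ext (Subtype.ext e), orderOf_one] at hc; omega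
      · have : (⟨z, hz.mem.1⟩ : ↥(S : Subgroup G)) = (c : ↥(S : Subgroup G)) := Subtype.ext e.symm
        rw [this]; exact c.2.1

/-- The case of one central involution that is not weakly closed, in rank at most two. -/
theorem small_rank (hG : Ctx G) {S : Sylow 2 G} {z : G} (hz : One S z)
    (hzH : z ∈ Cfsg.pResidual 2 G) (hsmall : ∀ F, ¬ Big (S : Subgroup G) F)
    (hH : ∀ U : Sylow 2 G, (U : Subgroup G) ⊓ Cfsg.pResidual 2 G ≠ ⊥)
    {g : G} (huS : g * z * g⁻¹ ∈ (S : Subgroup G)) (hne : g * z * g⁻¹ ≠ z) :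
    (∃ M : Subgroup ↥(Cfsg.pResidual 2 G), Cfsg.IsStronglyEmbedded M) ∨
      Cfsg.IsCharacteristicTwoType ↥(Cfsg.pResidual 2 G ⊔ zSub S) := by
  haveI : Fact (Nat.Prime 2) := ⟨Nat.prime_two⟩
  set H := Cfsg.pResidual 2 G with hHdef
  haveI : H.Normal := CfsgLib.Transfer.pResidual_normal
  have hX : H ⊔ zSub S = H := sup_eq_left.2 fun x hx => by
    rcases hz.uniq x hx with rfl | rfl
    exacts [one_mem _, hzH]
  set D := Cfsg.centralizerPPrimeCore 2 z with hD
  have hDodd : Odd (Nat.card ↥D) := CfsgLib.InvChar.ConstrainedSignalizer.odd_core z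
  have hconj : ∀ t ∈ (S : Subgroup G), t ∈ H → orderOf t = 2 →
      Cfsg.centralizerPPrimeCore 2 t = D ∧ centralizer ({t} : Set G) ≤ normalizer (D : Set G) := by
    intro t htS htH ht
    obtain ⟨k, hk⟩ := isConj_iff.1 (one_class hG hz hzH hsmall huS hne htS htH ht)
    have ht' : One (k • S) t := hk ▸ hz.smul k
    have ht2 : t ^ 2 = 1 := ht ▸ pow_orderOf_eq_one t
    have htz : t * z = z * t := hz.mem.2.2 t htS
    have hzk : z ∈ ((k • S : Sylow 2 G) : Subgroup G) :=
      hG.two_mem_of_commute ht' ⟨1, by rw [pow_one]; exact hz.mem.2.1⟩ htz.symm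
    -- each core centralizes its Sylow subgroup
    have hcen : ∀ (U : Sylow 2 G) (b : G), One U b → ∀ w ∈ (U : Subgroup G), w ^ 2 = 1 →
        Cfsg.centralizerPPrimeCore 2 b ≤ centralizer ({w} : Set G) := by
      intro U b hb w hw hw2 x hx
      have hxN := hG.centralizer_le hb (centralizerPPrimeCore_le b hx)
      have hwb : w * b = b * w := hb.mem.2.2 w hw
      refine mem_centralizer_singleton_iff.2 ?_
      have h1 : w * x * w⁻¹ * x⁻¹ ∈ Cfsg.centralizerPPrimeCore 2 b := mul_mem ((mem_normalizer_iff.1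
        (CfsgLib.InvChar.ConstrainedSignalizer.le_normalizer_core hwb.symm) x).1 hx) (inv_mem hx)
      have h2 : w * x * w⁻¹ * x⁻¹ ∈ (U : Subgroup G) := by
        rw [show w * x * w⁻¹ * x⁻¹ = w * (x * w⁻¹ * x⁻¹) by group]
        exact mul_mem hw ((mem_normalizer_iff.1 hxN _).1 (inv_mem hw))
      have h3 : Cfsg.centralizerPPrimeCore 2 b ⊓ (U : Subgroup G) = ⊥ := by
        refine inf_eq_bot_of_coprime ?_
        obtain ⟨n, hn⟩ := U.2.exists_card_eq
        rw [hn]
        exact Nat.Coprime.pow_right _ (coprime_card_centralizerPPrimeCore b)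
      have h4 : w * x * w⁻¹ * x⁻¹ = 1 :=
        mem_bot.1 (h3 ▸ ⟨h1, h2⟩ : w * x * w⁻¹ * x⁻¹ ∈ (⊥ : Subgroup G))
      exact (mul_inv_eq_iff_eq_mul.1 (mul_inv_eq_one.1 h4)).symm
    have heq : Cfsg.centralizerPPrimeCore 2 t = D := le_antisymm
      ((le_inf le_rfl (hcen _ t ht' z hzk hz.mem.2.1)).trans (hG.balance ht2 hz.mem.2.1 hz.ne htz))
      ((le_inf le_rfl (hcen S z hz t htS ht2)).trans (hG.balance hz.mem.2.1 ht2 ht'.ne htz.symm))
    refine ⟨heq, ?_⟩
    rw [← heq]
    exact centralizer_le_normalizer_centralizerPPrimeCore t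
  by_cases hD1 : D = ⊥
  · refine Or.inr ?_
    rw [hX]
    refine charTwo hG (X := H) ?_ fun t htH ht => ?_
    · rw [← hz.order]; exact Subgroup.orderOf_dvd_natCard H hzH
    obtain ⟨m, -, hm⟩ := exists_conj_mem S (M := ⊤) le_top (mem_top t) (ht ▸ pow_orderOf_eq_one t)
    have h0 := (hconj _ hm (Normal.conj_mem inferInstance t htH m)
      (((MulAut.conj m).orderOf_eq t).trans ht)).1
    rw [CfsgLib.Comp.FunctorTriv.centralizerPPrimeCore_conj, hD1,
      map_eq_bot_iff_of_injective _ (MulEquiv.injective _)] at h0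
    exact h0
  refine Or.inl ⟨_, stronglyEmbedded hH S (M := normalizer (D : Set G)) (fun n hn => ?_)
    (pPrimeCore_ne_bot_false hG hDodd hD1) fun t htS htH ht => (hconj t htS htH ht).2⟩
  refine centralizer_le_normalizer_centralizerPPrimeCore z (mem_centralizer_singleton_iff.2 ?_)
  have hnS : (n • S : Sylow 2 G) = S := Sylow.smul_eq_iff_mem_normalizer.2 hn
  have h1 := hz.smul n
  rw [hnS] at h1
  exact mul_inv_eq_iff_eq_mul.1 ((hz.uniq _ h1.mem).resolve_left h1.ne)

end CfsgLib.Comp.SolvCent
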