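import Cfsg.Agent.Lib.Comp.SolvCent.LargeRank
import Cfsg.Agent.Lib.Comp.SolvCent.SmallRank

/-!
# The four alternatives
-/

set_option autoImplicit false
set_option linter.style.haveILetI false
set_option linter.unusedSectionVars false

namespace CfsgLib.Comp.SolvCent

open Subgroup

universe u

variable {G : Type u} [Group G] [Finite G]

theorem inf_pResidual_ne_bot (hG : Ctx G) (hO : Cfsg.pCore 2 G = ⊥) (U : Sylow 2 G) :
    (U : Subgroup G) ⊓ Cfsg.pResidual 2 G ≠ ⊥ := by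
  haveI : Fact (Nat.Prime 2) := ⟨Nat.prime_two⟩
  set H := Cfsg.pResidual 2 G with hH
  haveI : H.Normal := CfsgLib.Transfer.pResidual_normal
  intro hUH
  have hcop : (Nat.card ↥H).Coprime 2 := by
    rw [Nat.coprime_two_right]
    refine Nat.not_even_iff_odd.1 fun he => ?_
    obtain ⟨⟨x, hx⟩, hxo⟩ := exists_prime_orderOf_dvd_card' (G := ↥H) 2 (even_iff_two_dvd.1 he)
    have hx2 : x ^ 2 = 1 := by
      have := pow_orderOf_eq_one (⟨x, hx⟩ : ↥H)
      rw [hxo] at this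
      exact congrArg Subtype.val this
    obtain ⟨m, -, hm⟩ := exists_conj_mem U (M := ⊤) le_top (mem_top x) hx2
    have h3 : m * x * m⁻¹ ∈ (U : Subgroup G) ⊓ H := ⟨hm, Normal.conj_mem inferInstance x hx m⟩
    rw [hUH, mem_bot, conj_eq_one_iff] at h3
    rw [show (⟨x, hx⟩ : ↥H) = 1 from Subtype.ext h3, orderOf_one] at hxo
    omega
  have hHb : H = ⊥ := le_bot_iff.1 (hG.core ▸ (le_sSup ⟨inferInstance, hcop⟩ : H ≤ Cfsg.pPrimeCore 2 G))
  have hUt : (U : Subgroup G) = ⊤ := by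
    have := sup_pResidual U
    rwa [← hH, hHb, sup_bot_eq] at this
  have htop : (⊤ : Subgroup G) ≤ Cfsg.pCore 2 G := le_sSup ⟨inferInstance, hUt ▸ U.2⟩
  rw [hO, top_le_iff] at htop
  have h1 := hG.even
  rw [← Subgroup.card_top (G := G), ← htop, Subgroup.card_bot] at h1
  omega

theorem main (hG : Ctx G) (hO : Cfsg.pCore 2 G = ⊥) (S : Sylow 2 G) :
    (∃ M : Subgroup ↥(Cfsg.pResidual 2 G), Cfsg.IsStronglyEmbedded M) ∨
    (Nat.card ↥(zSub S ⊓ Cfsg.pResidual 2 G) = 2 ∧ ∀ h ∈ Cfsg.pResidual 2 G,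
      ∀ z ∈ zSub S ⊓ Cfsg.pResidual 2 G, h * z * h⁻¹ ∈ (S : Subgroup G) → h * z * h⁻¹ ∈ zSub S) ∨
    (Nat.card ↥(zSub S) = 4 ∧ Cfsg.omegaOne 2 ((S : Subgroup G) ⊓ Cfsg.pResidual 2 G) = zSub S) ∨
    Cfsg.IsCharacteristicTwoType ↥(Cfsg.pResidual 2 G ⊔ zSub S) := by
  haveI : Fact (Nat.Prime 2) := ⟨Nat.prime_two⟩
  have hH := inf_pResidual_ne_bot hG hO
  set H := Cfsg.pResidual 2 G with hHdef
  haveI : H.Normal := CfsgLib.Transfer.pResidual_normal
  by_cases hbig : ∃ E, Big (S : Subgroup G) E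
  · obtain ⟨E, hE⟩ := hbig
    rcases large_rank hG hE hH with h | h
    exacts [Or.inl h, Or.inr (Or.inr (Or.inr h))]
  push Not at hbig
  obtain ⟨z₀, hz₀, hz₀1, hz₀H⟩ := exists_central_mem S (hH S)
  rcases zSub_cases hG.even S with ⟨z, hz⟩ | ⟨z₁, hz₁, z₂, hz₂, h1, h2, hne⟩
  · have hzH : z ∈ H := (hz.uniq z₀ hz₀).resolve_left hz₀1 ▸ hz₀H
    by_cases hwc : ∀ h ∈ H, h * z * h⁻¹ ∈ (S : Subgroup G) → h * z * h⁻¹ = z
    · refine Or.inr (Or.inl ⟨?_, fun h hh x hx hxS => ?_⟩)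
      · have : zSub S ⊓ H = zpowers z := by
          refine le_antisymm (fun x hx => ?_) (zpowers_le.2 ⟨hz.mem, hzH⟩)
          rcases hz.uniq x hx.1 with rfl | rfl
          exacts [one_mem _, mem_zpowers x]
        rw [this, Nat.card_zpowers, hz.order]
      · rcases hz.uniq x hx.1 with rfl | rfl
        · simp
        · rw [hwc h hh hxS]; exact hz.mem
    · push Not at hwc
      obtain ⟨g, -, huS, hne⟩ := hwc
      rcases small_rank hG hz hzH hbig hH huS hne with h | h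
      exacts [Or.inl h, Or.inr (Or.inr (Or.inr h))]
  -- every involution of `S` is central
  classical
  have hall : ∀ x ∈ (S : Subgroup G), x ^ 2 = 1 → x = 1 ∨ x = z₁ ∨ x = z₂ ∨ x = z₁ * z₂ := by
    intro x hx hx2
    by_contra hcon
    push Not at hcon
    obtain ⟨F, hF, -, -, -⟩ := big_of_three hz₁.1 hz₂.1 hx hz₁.2.1 hz₂.2.1 hx2 (hz₂.2.2 z₁ hz₁.1)
      (hz₁.2.2 x hx).symm (hz₂.2.2 x hx).symm h1 h2 hne hcon.1 hcon.2.1 hcon.2.2.1 hcon.2.2.2
    exact hbig F hF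
  have hinS : ∀ x ∈ (S : Subgroup G), x ^ 2 = 1 → x ∈ zSub S := by
    intro x hx hx2
    rcases hall x hx hx2 with rfl | rfl | rfl | rfl
    exacts [one_mem _, hz₁, hz₂, mul_mem hz₁ hz₂]
  have hcard : Nat.card ↥(zSub S) = 4 := by
    obtain ⟨U, hU, hU4, -, -⟩ := CfsgLib.Invol.exists_four (z := z₁) (x := z₂)
      (by rw [← pow_two]; exact hz₁.2.1) (by rw [← pow_two]; exact hz₂.2.1) (hz₂.2.2 z₁ hz₁.1) h1 h2 hne.symm
    have : zSub S = U := by
      refine le_antisymm (fun x hx => (hU x).2 (hall x hx.1 hx.2.1)) fun x hx => ?_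
      rcases (hU x).1 hx with rfl | rfl | rfl | rfl
      exacts [one_mem _, hz₁, hz₂, mul_mem hz₁ hz₂]
    rw [this, hU4]
  have homega : Cfsg.omegaOne 2 ((S : Subgroup G) ⊓ H) = zSub S ⊓ H := by
    refine le_antisymm ((closure_le _).2 fun x hx => ⟨hinS x hx.1.1 hx.2, hx.1.2⟩) fun x hx => ?_
    exact subset_closure ⟨⟨hx.1.1, hx.2⟩, hx.1.2.1⟩
  by_cases heq : zSub S ⊓ H = zSub S
  · exact Or.inr (Or.inr (Or.inl ⟨hcard, homega.trans heq⟩))
  refine Or.inr (Or.inl ⟨?_, fun h hh x hx hxS => ?_⟩)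
  · have hdvd : Nat.card ↥(zSub S ⊓ H) ∣ 2 ^ 2 := by
      norm_num
      rw [← hcard]; exact card_dvd_of_le inf_le_left
    obtain ⟨j, hj2, hj⟩ := (Nat.dvd_prime_pow Nat.prime_two).1 hdvd
    have hj1 : j ≠ 0 := by
      intro e
      rw [e, pow_zero] at hj
      have h0 := card_eq_one.1 hj
      have hm : z₀ ∈ zSub S ⊓ H := ⟨hz₀, hz₀H⟩
      rw [h0, mem_bot] at hm
      exact hz₀1 hm
    have hj3 : j ≠ 2 := by
      intro e
      rw [e] at hj
      exact heq (eq_of_le_of_card_ge inf_le_left (by rw [hcard, hj]; norm_num))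
    rw [hj, show j = 1 by omega, pow_one]
  · exact hinS _ hxS (by rw [conj_pow, hx.1.2.1, mul_one, mul_inv_cancel])

end CfsgLib.Comp.SolvCent
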