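import Cfsg.Agent.Lib.Comp.SolvCent.Basic
import Cfsg.Agent.Lib.Transfer.Thompson

/-!
# Rank at least three: one signalizer for each Sylow 2-subgroup
-/

set_option autoImplicit false
set_option linter.style.haveILetI false
set_option linter.unusedSectionVars false

namespace CfsgLib.Comp.SolvCent

open Subgroup
open CfsgLib.InvChar.ConstrainedSignalizer (El coreJoin el_closure eight_le coreJoin_eq_of_common)

universe u

variable {G : Type u} [Group G] [Finite G]

/-- An elementary abelian subgroup of order at least eight inside `P`. -/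
def Big (P E : Subgroup G) : Prop := El E ∧ 8 ≤ Nat.card ↥E ∧ E ≤ P

theorem Big.mono {P Q E : Subgroup G} (h : Big P E) (hPQ : P ≤ Q) : Big Q E :=
  ⟨h.1, h.2.1, h.2.2.trans hPQ⟩

theorem Big.map {P Q E : Subgroup G} (h : Big P E) (g : G)
    (hQ : ∀ x ∈ P, g * x * g⁻¹ ∈ Q) : Big Q (E.map (MulAut.conj g).toMonoidHom) := by
  refine ⟨⟨?_, ?_⟩, ?_, ?_⟩
  · rintro _ ⟨a, ha, rfl⟩ _ ⟨b, hb, rfl⟩
    rw [← map_mul, ← map_mul, h.1.1 a ha b hb]
  · rintro _ ⟨a, ha, rfl⟩
    rw [← map_pow, h.1.2 a ha, map_one]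
  · rw [card_map_of_injective (MulEquiv.injective _)]; exact h.2.1
  · rintro _ ⟨a, ha, rfl⟩
    exact hQ a (h.2.2 ha)

/-- A central involution squaring one element extends a big subgroup. -/
theorem Big.insert {P E : Subgroup G} (h : Big P E) {t : G} (ht : t ∈ P) (ht2 : t ^ 2 = 1)
    (hc : ∀ e ∈ E, t * e = e * t) :
    ∃ F, Big P F ∧ t ∈ F ∧ E ≤ F := by
  refine ⟨closure (Set.insert t (E : Set G)), ⟨el_closure ?_ ?_, ?_, ?_⟩,
    subset_closure (Or.inl rfl), fun e he => subset_closure (Or.inr he)⟩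
  · rintro a (rfl | ha) b (rfl | hb)
    exacts [rfl, hc b hb, (hc a ha).symm, h.1.1 a ha b hb]
  · rintro a (rfl | ha)
    exacts [ht2, h.1.2 a ha]
  · exact h.2.1.trans (card_le_of_le fun e he => subset_closure (Or.inr he))
  · refine (closure_le _).2 ?_
    rintro a (rfl | ha)
    exacts [ht, h.2.2 ha]

/-- Three commuting involutions, independent, give a big subgroup. -/
theorem big_of_three {P : Subgroup G} {x y w : G} (hx : x ∈ P) (hy : y ∈ P) (hw : w ∈ P)
    (hx2 : x ^ 2 = 1) (hy2 : y ^ 2 = 1) (hw2 : w ^ 2 = 1) (hxy : x * y = y * x) (hxw : x * w = w * x)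
    (hyw : y * w = w * y) (hx1 : x ≠ 1) (hy1 : y ≠ 1) (hne : x ≠ y) (hw1 : w ≠ 1) (hwx : w ≠ x)
    (hwy : w ≠ y) (hwxy : w ≠ x * y) :
    ∃ F, Big P F ∧ x ∈ F ∧ y ∈ F ∧ w ∈ F := by
  have hEl : El (closure ({x, y, w} : Set G)) := by
    refine el_closure ?_ ?_
    · rintro a (rfl | rfl | rfl) b (rfl | rfl | rfl)
      exacts [rfl, hxy, hxw, hxy.symm, rfl, hyw, hxw.symm, hyw.symm, rfl]
    · rintro a (rfl | rfl | rfl)
      exacts [hx2, hy2, hw2]
  have hm : ∀ a ∈ ({x, y, w} : Set G), a ∈ closure ({x, y, w} : Set G) := fun a ha => subset_closure ha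
  have hxm := hm x (Or.inl rfl)
  have hym := hm y (Or.inr (Or.inl rfl))
  have hwm := hm w (Or.inr (Or.inr rfl))
  refine ⟨_, ⟨hEl, eight_le hEl hxm hym hwm hx1 hy1 hne hw1 hwx hwy hwxy, (closure_le _).2 ?_⟩,
    hxm, hym, hwm⟩
  rintro a (rfl | rfl | rfl)
  exacts [hx, hy, hw]

/-- The rank of the Sylow subgroup is at least three, with a normal four-group `{1, z, a, za}`. -/
structure Four (S : Sylow 2 G) (z a : G) : Prop where
  hz : z ∈ zSub S
  z1 : z ≠ 1
  aS : a ∈ (S : Subgroup G)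
  a2 : a ^ 2 = 1
  a1 : a ≠ 1
  az : a ≠ z
  conj : ∀ s ∈ (S : Subgroup G), s * a * s⁻¹ = a ∨ s * a * s⁻¹ = z * a

theorem exists_four {S : Sylow 2 G} {E : Subgroup G} (hE : Big (S : Subgroup G) E) :
    ∃ z a, Four S z a := by
  haveI : Fact (Nat.Prime 2) := ⟨Nat.prime_two⟩
  have hr : ¬ Cfsg.PRankLE 2 2 ↥(S : Subgroup G) := by
    intro h
    have h1 := h (E.subgroupOf (S : Subgroup G))
      ⟨⟨fun a b => Subtype.ext (Subtype.ext (hE.1.1 _ (mem_subgroupOf.1 a.2) _ (mem_subgroupOf.1 b.2)))⟩⟩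
      (fun a ha => Subtype.ext (hE.1.2 _ (mem_subgroupOf.1 ha)))
    rw [Nat.card_congr (subgroupOfEquivOfLe hE.2.2).toEquiv] at h1
    have := hE.2.1
    omega
  obtain ⟨U, hUn, hUe, hUc⟩ := exists_normal_elementary_sq_of_rank S.2 hr
  have hne : U ≠ ⊥ := fun e => by rw [e, card_bot] at hUc; omega
  haveI := hUn
  have hmeet := CfsgLib.InvChar.ConstrainedSignalizer.meets_center S.2 hne
  obtain ⟨z, hz, hz1⟩ := exists_mem_ne_one hmeet
  classical
  haveI := Fintype.ofFinite ↥U
  obtain ⟨a, -, ha⟩ := Finset.exists_mem_notMem_of_card_lt_card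
    (s := ({1, ⟨z, hz.1⟩} : Finset ↥U)) (t := Finset.univ) (by
      refine lt_of_le_of_lt Finset.card_le_two ?_
      rw [Finset.card_univ, ← Nat.card_eq_fintype_card, hUc]; norm_num)
  simp only [Finset.mem_insert, Finset.mem_singleton, not_or] at ha
  have ha1 : (a : ↥(S : Subgroup G)) ≠ 1 := fun e => ha.1 (Subtype.ext e)
  have haz : (a : ↥(S : Subgroup G)) ≠ z := fun e => ha.2 (Subtype.ext e)
  refine ⟨(z : G), ((a : ↥(S : Subgroup G)) : G), ⟨z.2, congrArg Subtype.val (hUe.2 z hz.1), fun s hs =>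
    congrArg Subtype.val (mem_center_iff.1 hz.2 ⟨s, hs⟩)⟩, fun e => hz1 (Subtype.ext e),
    (a : ↥(S : Subgroup G)).2, congrArg Subtype.val (hUe.2 _ a.2), fun e => ha1 (Subtype.ext e),
    fun e => haz (Subtype.ext e), fun s hs => ?_⟩
  set b : ↥(S : Subgroup G) := ⟨s, hs⟩ * a * (⟨s, hs⟩ : ↥(S : Subgroup G))⁻¹ with hb
  have hbU : b ∈ U := hUn.conj_mem a a.2 _
  let f : Fin 4 → ↥U := ![1, ⟨z, hz.1⟩, a, ⟨z, hz.1⟩ * a]
  have hsq : ∀ x : ↥U, x * x = 1 := fun x => Subtype.ext (by
    show (x : ↥(S : Subgroup G)) * x = 1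
    rw [← pow_two]; exact hUe.2 x x.2)
  have hf : Function.Injective f := by
    intro i j hij
    have e1 : (1 : ↥U) ≠ ⟨z, hz.1⟩ := fun e => hz1 (congrArg Subtype.val e).symm
    have e2 : (⟨z, hz.1⟩ : ↥U) * a ≠ 1 := fun e => ha.2 (by
      have := congrArg (fun w => (⟨z, hz.1⟩ : ↥U) * w) e
      simpa [← mul_assoc, hsq] using this)
    fin_cases i <;> fin_cases j <;> simp [f] at hij ⊢
    all_goals first
      | exact e1 hij | exact e1 hij.symm | exact hz1 hij | exact hz1 hij.symm | exact ha.1 hij | exact ha.1 hij.symm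
      | exact ha.2 hij | exact ha.2 hij.symm | exact e2 hij | exact e2 hij.symm
  have hbij := (Fintype.bijective_iff_injective_and_card f).2 ⟨hf, by
    rw [Fintype.card_fin, ← Nat.card_eq_fintype_card, hUc]; norm_num⟩
  obtain ⟨i, hi⟩ := hbij.2 ⟨b, hbU⟩
  have hbG : (b : G) = s * ((a : ↥(S : Subgroup G)) : G) * s⁻¹ := rfl
  have hi' := congrArg (fun w : ↥U => ((w : ↥(S : Subgroup G)) : G)) hi
  fin_cases i <;> simp [f, hbG] at hi'
  · exact absurd (conj_eq_one_iff.1 hi'.symm) fun e => ha1 (Subtype.ext e)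
  · exfalso
    refine haz (Subtype.ext ?_)
    have hzc := congrArg Subtype.val (mem_center_iff.1 hz.2 ⟨s, hs⟩)
    calc ((a : ↥(S : Subgroup G)) : G) = s⁻¹ * (s * a * s⁻¹) * s := by group
      _ = s⁻¹ * (z * s) := by rw [← hi']; group
      _ = s⁻¹ * (s * z) := by rw [show (z : G) * s = s * z from hzc.symm]
      _ = z := by group
  · exact Or.inl hi'.symm
  · exact Or.inr hi'.symm

namespace Four

variable {S : Sylow 2 G} {z a : G} (h : Four S z a)
include h

theorem z2 : z ^ 2 = 1 := h.hz.2.1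

theorem za : z * a = a * z := (h.hz.2.2 a h.aS).symm

theorem za1 : z * a ≠ 1 := fun e => h.az (by
  have := congrArg (fun w => z * w) e
  simpa [← mul_assoc, ← pow_two, h.z2] using this)

/-- An involution of `S` centralizing `a` lies in a big subgroup with `z` and `a`, given one big
subgroup. -/
theorem big_of_commute {E : Subgroup G} (hE : Big (S : Subgroup G) E) {t : G}
    (ht : t ∈ (S : Subgroup G)) (ht2 : t ^ 2 = 1) (hta : t * a = a * t) :
    ∃ F, Big (S : Subgroup G) F ∧ t ∈ F ∧ z ∈ F ∧ a ∈ F := by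
  -- a third involution
  obtain ⟨w, hwS, hw2, hwa, hw1, hwz, hwaa, hwza⟩ : ∃ w ∈ (S : Subgroup G), w ^ 2 = 1 ∧ w * a = a * w ∧
      w ≠ 1 ∧ w ≠ z ∧ w ≠ a ∧ w ≠ z * a := by
    by_contra hcon
    push Not at hcon
    classical
    let F : Finset G := {1, z, a, z * a}
    have hF : F.card ≤ 4 := by
      refine (Finset.card_insert_le _ _).trans ?_
      refine Nat.succ_le_succ ?_
      exact Finset.card_le_three
    have hcl : ∀ e ∈ E, e * a = a * e → e ∈ F := by
      intro e he hea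
      simp only [F, Finset.mem_insert, Finset.mem_singleton]
      by_contra hne
      push Not at hne
      exact hne.2.2.2 (hcon e (hE.2.2 he) (hE.1.2 e he) hea hne.1 hne.2.1 hne.2.2.1)
    haveI := Fintype.ofFinite ↥E
    by_cases hall : ∀ e ∈ E, e * a = a * e
    · have := Finset.card_le_card (s := Finset.univ.map ⟨fun e : ↥E => (e : G), Subtype.val_injective⟩)
        (t := F) (by
          intro x hx
          simp only [Finset.mem_map, Finset.mem_univ, Function.Embedding.coeFn_mk, true_and] at hx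
          obtain ⟨e, rfl⟩ := hx
          exact hcl e e.2 (hall e e.2))
      rw [Finset.card_map, Finset.card_univ, ← Nat.card_eq_fintype_card] at this
      have := hE.2.1
      omega
    · push Not at hall
      obtain ⟨e₀, he₀, he₀a⟩ := hall
      have h0 : e₀ * a * e₀⁻¹ = z * a := (h.conj e₀ (hE.2.2 he₀)).resolve_left fun e =>
        he₀a (mul_inv_eq_iff_eq_mul.1 e)
      -- `a` and `z * a` are not in `E`
      have hout : ∀ e ∈ E, e ≠ a ∧ e ≠ z * a := by
        intro e he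
        constructor
        · rintro rfl; exact he₀a (hE.1.1 e₀ he₀ e he)
        · rintro rfl
          refine he₀a ?_
          have h1 : e₀ * (z * a) = z * a * e₀ := hE.1.1 e₀ he₀ _ he
          have h2 : e₀ * z = z * e₀ := h.hz.2.2 e₀ (hE.2.2 he₀)
          rw [← mul_assoc, h2, mul_assoc, mul_assoc] at h1
          exact mul_left_cancel h1
      let φ : ↥E → G × Bool := fun e =>
        if (e : G) * a = a * (e : G) then ((e : G), true) else (e₀ * (e : G), false)
      have hmaps : ∀ e : ↥E, φ e ∈ ({1, z} : Finset G) ×ˢ (Finset.univ : Finset Bool) := by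
        intro e
        have hcase : ∀ x ∈ E, x * a = a * x → x ∈ ({1, z} : Finset G) := by
          intro x hx hxa
          have := hcl x hx hxa
          simp only [F, Finset.mem_insert, Finset.mem_singleton] at this ⊢
          rcases this with r | r | r | r
          exacts [Or.inl r, Or.inr r, absurd r (hout x hx).1, absurd r (hout x hx).2]
        simp only [φ]
        split
        · exact Finset.mem_product.2 ⟨hcase e e.2 ‹_›, Finset.mem_univ _⟩
        · refine Finset.mem_product.2 ⟨hcase _ (mul_mem he₀ e.2) ?_, Finset.mem_univ _⟩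
          have h1 : (e : G) * a * (e : G)⁻¹ = z * a := (h.conj e (hE.2.2 e.2)).resolve_left fun r =>
            ‹¬ (e : G) * a = a * (e : G)› (mul_inv_eq_iff_eq_mul.1 r)
          have h2 : e₀ * z = z * e₀ := h.hz.2.2 e₀ (hE.2.2 he₀)
          calc e₀ * (e : G) * a = e₀ * ((e : G) * a * (e : G)⁻¹) * (e : G) := by group
            _ = e₀ * z * a * (e : G) := by rw [h1]; group
            _ = z * (e₀ * a * e₀⁻¹) * (e₀ * (e : G)) := by rw [h2]; group
            _ = z * z * a * (e₀ * (e : G)) := by rw [h0]; group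
            _ = a * (e₀ * (e : G)) := by rw [← pow_two, h.z2, one_mul]
      have hinj : Function.Injective φ := by
        intro x y hxy
        simp only [φ] at hxy
        split at hxy <;> split at hxy <;> simp at hxy <;> exact hxy
      have := Finset.card_le_card_of_injOn φ (s := Finset.univ)
        (t := ({1, z} : Finset G) ×ˢ (Finset.univ : Finset Bool)) (fun e _ => hmaps e) hinj.injOn
      rw [Finset.card_univ, ← Nat.card_eq_fintype_card, Finset.card_product, Finset.card_univ,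
        Fintype.card_bool] at this
      have h2 : ({1, z} : Finset G).card ≤ 2 := Finset.card_le_two
      have := hE.2.1
      omega
  obtain ⟨F, hF, hzF, haF, hwF⟩ := big_of_three h.hz.1 h.aS hwS h.z2 h.a2 hw2 h.za
    (h.hz.2.2 w hwS).symm hwa.symm h.z1 h.a1 h.az.symm hw1 hwz hwaa hwza
  by_cases h3 : t ≠ 1 ∧ t ≠ z ∧ t ≠ a ∧ t ≠ z * a
  · obtain ⟨F', hF', hz', ha', ht'⟩ := big_of_three h.hz.1 h.aS ht h.z2 h.a2 ht2 h.za
      (h.hz.2.2 t ht).symm hta.symm h.z1 h.a1 h.az.symm h3.1 h3.2.1 h3.2.2.1 h3.2.2.2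
    exact ⟨F', hF', ht', hz', ha'⟩
  · refine ⟨F, hF, ?_, hzF, haF⟩
    by_cases r1 : t = 1
    · rw [r1]; exact one_mem _
    by_cases r2 : t = z
    · rw [r2]; exact hzF
    by_cases r3 : t = a
    · rw [r3]; exact haF
    by_cases r4 : t = z * a
    · rw [r4]; exact mul_mem hzF haF
    exact absurd ⟨r1, r2, r3, r4⟩ h3

/-- All big subgroups of `S` have one join. -/
theorem join_eq (hG : Ctx G) {E E' : Subgroup G} (hE : Big (S : Subgroup G) E)
    (hE' : Big (S : Subgroup G) E') : coreJoin E = coreJoin E' := by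
  suffices ∀ D, Big (S : Subgroup G) D → ∃ F, Big (S : Subgroup G) F ∧ z ∈ F ∧ a ∈ F ∧
      coreJoin D = coreJoin F by
    obtain ⟨F, hF, hzF, haF, e⟩ := this E hE
    obtain ⟨F', hF', hzF', haF', e'⟩ := this E' hE'
    rw [e, e', coreJoin_eq_of_common hG.complete hF.1 hF.2.1 hF'.1 hF'.2.1 hzF hzF' haF haF' h.z1 h.a1
      h.az.symm]
  intro D hD
  -- insert `z`
  obtain ⟨D₁, hD₁, hzD₁, hle⟩ := hD.insert h.hz.1 h.z2 fun e he => (h.hz.2.2 e (hD.2.2 he)).symm
  -- an element of `D₁` outside `⟨z⟩` centralizing `a`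
  obtain ⟨x, hx, hx1, hxz, hxa⟩ : ∃ x ∈ D₁, x ≠ 1 ∧ x ≠ z ∧ x * a = a * x := by
    by_contra hcon
    push Not at hcon
    classical
    haveI := Fintype.ofFinite ↥D₁
    have hno : ∀ e ∈ D₁, e ≠ 1 → e ≠ z → e * a * e⁻¹ = z * a := fun e he h1 h2 =>
      (h.conj e (hD₁.2.2 he)).resolve_left fun r => hcon e he h1 h2 (mul_inv_eq_iff_eq_mul.1 r)
    obtain ⟨x, -, hx⟩ := Finset.exists_mem_notMem_of_card_lt_card
      (s := ({1, ⟨z, hzD₁⟩} : Finset ↥D₁)) (t := Finset.univ) (by
        refine lt_of_le_of_lt Finset.card_le_two ?_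
        rw [Finset.card_univ, ← Nat.card_eq_fintype_card]; have := hD₁.2.1; omega)
    obtain ⟨y, -, hy⟩ := Finset.exists_mem_notMem_of_card_lt_card
      (s := ({1, ⟨z, hzD₁⟩, x, ⟨z, hzD₁⟩ * x} : Finset ↥D₁)) (t := Finset.univ) (by
        refine lt_of_le_of_lt ((Finset.card_insert_le _ _).trans (Nat.succ_le_succ Finset.card_le_three)) ?_
        rw [Finset.card_univ, ← Nat.card_eq_fintype_card]; have := hD₁.2.1; omega)
    simp only [Finset.mem_insert, Finset.mem_singleton, not_or] at hx hy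
    have hxx : (x : G) * x = 1 := by rw [← pow_two]; exact hD₁.1.2 x x.2
    have hxy1 : (x : G) * y ≠ 1 := fun e => hy.2.2.1 (Subtype.ext (mul_left_cancel (e.trans hxx.symm)))
    have hxyz : (x : G) * y ≠ z := fun e => hy.2.2.2 (Subtype.ext (by
      show (y : G) = z * x
      rw [hD₁.1.1 z hzD₁ x x.2, ← e, ← mul_assoc, hxx, one_mul]))
    refine hcon _ (mul_mem x.2 y.2) hxy1 hxyz ?_
    have e1 := hno x x.2 (fun e => hx.1 (Subtype.ext e)) (fun e => hx.2 (Subtype.ext e))
    have e2 := hno y y.2 (fun e => hy.1 (Subtype.ext e)) (fun e => hy.2.1 (Subtype.ext e))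
    calc (x : G) * y * a = x * (y * a * (y : G)⁻¹) * y := by group
      _ = x * z * a * y := by rw [e2]; group
      _ = z * (x * a * (x : G)⁻¹) * (x * y) := by
          rw [show (x : G) * z = z * x from h.hz.2.2 x (hD₁.2.2 x.2)]; group
      _ = z * z * a * (x * y) := by rw [e1]; group
      _ = a * (x * y) := by rw [← pow_two, h.z2, one_mul]
  obtain ⟨F, hF, hxF, hzF, haF⟩ := h.big_of_commute hD (hD₁.2.2 hx) (hD₁.1.2 x hx) hxa
  refine ⟨F, hF, hzF, haF, ?_⟩
  obtain ⟨e, heD, he1, f, hfD, hf1, hef⟩ : ∃ e ∈ D, e ≠ 1 ∧ ∃ f ∈ D, f ≠ 1 ∧ e ≠ f := by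
    classical
    haveI := Fintype.ofFinite ↥D
    obtain ⟨e, -, he⟩ := Finset.exists_mem_notMem_of_card_lt_card (s := ({1} : Finset ↥D))
      (t := Finset.univ) (by
        rw [Finset.card_singleton, Finset.card_univ, ← Nat.card_eq_fintype_card]
        have := hD.2.1; omega)
    obtain ⟨f, -, hf⟩ := Finset.exists_mem_notMem_of_card_lt_card (s := ({1, e} : Finset ↥D))
      (t := Finset.univ) (by
        refine lt_of_le_of_lt Finset.card_le_two ?_
        rw [Finset.card_univ, ← Nat.card_eq_fintype_card]; have := hD.2.1; omega)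
    simp only [Finset.mem_insert, Finset.mem_singleton, not_or] at he hf
    exact ⟨e, e.2, fun r => he (Subtype.ext r), f, f.2, fun r => hf.1 (Subtype.ext r),
      fun r => hf.2 (Subtype.ext r.symm)⟩
  rw [coreJoin_eq_of_common hG.complete hD.1 hD.2.1 hD₁.1 hD₁.2.1 heD (hle heD) hfD (hle hfD) he1 hf1 hef]
  exact coreJoin_eq_of_common hG.complete hD₁.1 hD₁.2.1 hF.1 hF.2.1 hx hxF hzD₁ hzF hx1 h.z1 hxz

end Four

theorem join_eq (hG : Ctx G) {S : Sylow 2 G} {E E' : Subgroup G} (hE : Big (S : Subgroup G) E)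
    (hE' : Big (S : Subgroup G) E') : coreJoin E = coreJoin E' := by
  obtain ⟨z, a, h⟩ := exists_four hE
  exact h.join_eq hG hE hE'

theorem map_coreJoin_le (g : G) (E : Subgroup G) :
    (coreJoin E).map (MulAut.conj g).toMonoidHom ≤ coreJoin (E.map (MulAut.conj g).toMonoidHom) := by
  rw [coreJoin, Subgroup.map_iSup]
  refine iSup_le fun b => (CfsgLib.InvChar.ConstrainedSignalizer.map_core_conj g b.1).trans ?_
  exact le_iSup (fun c : {c : G // c ∈ E.map (MulAut.conj g).toMonoidHom ∧ c ≠ 1} =>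
    Cfsg.centralizerPPrimeCore 2 (c : G))
    ⟨g * b.1 * g⁻¹, ⟨b.1, b.2.1, rfl⟩, fun e => b.2.2 (conj_eq_one_iff.1 e)⟩

/-- Conjugating a big subgroup of `S` back into `S` fixes the join. -/
theorem mem_normalizer_join (hG : Ctx G) {S : Sylow 2 G} {E E' : Subgroup G}
    (hE : Big (S : Subgroup G) E) {g : G} (hg : E'.map (MulAut.conj g).toMonoidHom ≤ (S : Subgroup G))
    (hE' : Big (S : Subgroup G) E') : g ∈ normalizer (coreJoin E : Set G) := by
  have hb : Big (S : Subgroup G) (E'.map (MulAut.conj g).toMonoidHom) := by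
    have := (hE'.map (Q := (⊤ : Subgroup G)) g fun _ _ => mem_top _)
    exact ⟨this.1, this.2.1, hg⟩
  rw [← map_conj_eq_iff]
  refine eq_of_le_of_card_ge ?_ (le_of_eq (card_map_of_injective (MulEquiv.injective _)).symm)
  calc (coreJoin E).map (MulAut.conj g).toMonoidHom
      = (coreJoin E').map (MulAut.conj g).toMonoidHom := by rw [join_eq hG hE hE']
    _ ≤ coreJoin (E'.map (MulAut.conj g).toMonoidHom) := map_coreJoin_le g E'
    _ = coreJoin E := join_eq hG hb hE

theorem normalizer_le (hG : Ctx G) {S : Sylow 2 G} {E : Subgroup G} (hE : Big (S : Subgroup G) E) :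
    normalizer ((S : Subgroup G) : Set G) ≤ normalizer (coreJoin E : Set G) := fun g hg =>
  mem_normalizer_join hG hE (by
    rintro _ ⟨x, hx, rfl⟩
    exact (mem_normalizer_iff.1 hg x).1 (hE.2.2 hx)) hE

theorem odd_join (hG : Ctx G) {P E : Subgroup G} (hE : Big P E) : Odd (Nat.card ↥(coreJoin E)) :=
  Nat.not_even_iff_odd.1 fun h => (hG.complete E hE.1.1 hE.1.2 hE.2.1).1 (even_iff_two_dvd.1 h)

theorem core_le_join {P E : Subgroup G} (hE : Big P E) {t : G} (ht : t ∈ E) (ht1 : t ≠ 1) :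
    Cfsg.centralizerPPrimeCore 2 t ≤ coreJoin E :=
  le_iSup (fun b : {b : G // b ∈ E ∧ b ≠ 1} => Cfsg.centralizerPPrimeCore 2 (b : G)) ⟨t, ht, ht1⟩

/-- Involutions of `O^2(G)` or of the centre lie, up to conjugation, in big subgroups of `S`. -/
theorem exists_big_conj (hG : Ctx G) {S : Sylow 2 G} {E : Subgroup G} (hE : Big (S : Subgroup G) E)
    {t : G} (htS : t ∈ (S : Subgroup G)) (ht2 : t ^ 2 = 1)
    (htX : t ∈ Cfsg.pResidual 2 G ⊔ zSub S) :
    ∃ g F, Big (S : Subgroup G) F ∧ g * t * g⁻¹ ∈ F := by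
  haveI : Fact (Nat.Prime 2) := ⟨Nat.prime_two⟩
  obtain ⟨z, a, h⟩ := exists_four hE
  by_cases hta : t * a = a * t
  · obtain ⟨F, hF, htF, -, -⟩ := h.big_of_commute hE htS ht2 hta
    exact ⟨1, F, hF, by simpa using htF⟩
  rcases zSub_cases hG.even S with ⟨w, hw⟩ | ⟨z₁, hz₁, z₂, hz₂, h1, h2, hne⟩
  · -- `t` lies in `O^2(G)` and is moved into the centralizer of `a` by transfer
    set H := Cfsg.pResidual 2 G with hH
    haveI : H.Normal := CfsgLib.Transfer.pResidual_normal
    have hwH : w ∈ H := by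
      by_contra hwH
      have hSH : (S : Subgroup G) ⊓ H = ⊥ := by
        by_contra hne
        obtain ⟨x, hx, hx1, hxH⟩ := exists_central_mem S hne
        exact hwH ((hw.uniq x hx).resolve_left hx1 ▸ hxH)
      have hcop : (Nat.card ↥H).Coprime 2 := by
        rw [Nat.coprime_two_right]
        refine Nat.not_even_iff_odd.1 fun he => ?_
        obtain ⟨⟨x, hx⟩, hxo⟩ := exists_prime_orderOf_dvd_card' (G := ↥H) 2 (even_iff_two_dvd.1 he)
        have hx2 : x ^ 2 = 1 := by
          have := pow_orderOf_eq_one (⟨x, hx⟩ : ↥H)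
          rw [hxo] at this
          exact congrArg Subtype.val this
        obtain ⟨m, -, hm⟩ := exists_conj_mem S (M := ⊤) le_top (mem_top x) hx2
        have h3 : m * x * m⁻¹ ∈ (S : Subgroup G) ⊓ H := ⟨hm, Normal.conj_mem inferInstance x hx m⟩
        rw [hSH, mem_bot, conj_eq_one_iff] at h3
        rw [show (⟨x, hx⟩ : ↥H) = 1 from Subtype.ext h3, orderOf_one] at hxo
        omega
      have hHb : H = ⊥ := le_bot_iff.1 (hG.core ▸ (le_sSup ⟨inferInstance, hcop⟩ : H ≤ Cfsg.pPrimeCore 2 G))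
      exact hta (by
        have htw : t ∈ zSub S := by simpa [hHb] using htX
        exact (htw.2.2 a h.aS).symm)
    have htH : t ∈ H := by
      refine (sup_le le_rfl ?_ : H ⊔ zSub S ≤ H) htX
      intro x hx
      rcases hw.uniq x hx with rfl | rfl
      exacts [one_mem _, hwH]
    -- transfer inside `H`
    obtain ⟨R, hRdef⟩ := CfsgLib.Transfer.exists_sylow_eq_subgroupOf S H
    let Q : Subgroup ↥H := (R : Subgroup ↥H) ⊓ (centralizer ({a} : Set G)).subgroupOf H
    have hR : ∀ x : ↥H, x ∈ (R : Subgroup ↥H) ↔ (x : G) ∈ (S : Subgroup G) := fun x => by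
      rw [hRdef, mem_subgroupOf]
    have hQ : ∀ x : ↥H, x ∈ Q ↔ (x : G) ∈ (S : Subgroup G) ∧ (x : G) * a = a * (x : G) := fun x => by
      rw [mem_inf, hR, mem_subgroupOf, mem_centralizer_singleton_iff]
    have hQi : Q.relIndex (R : Subgroup ↥H) = 2 := by
      rw [relIndex, index_eq_two_iff]
      refine ⟨⟨⟨t, htH⟩, (hR _).2 htS⟩, fun b => ?_⟩
      rw [mem_subgroupOf, mem_subgroupOf, hQ, hQ]
      have hb : ((b : ↥H) : G) ∈ (S : Subgroup G) := (hR _).1 b.2
      have ht' : t * a * t⁻¹ = z * a := (h.conj t htS).resolve_left fun r => hta (mul_inv_eq_iff_eq_mul.1 r)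
      simp only [Subgroup.coe_mul]
      rcases h.conj _ hb with r | r
      · refine Or.inr ⟨⟨hb, mul_inv_eq_iff_eq_mul.1 r⟩, fun hcon => hta ?_⟩
        have h1 := hcon.2
        rw [mul_assoc, show (t : G) * a = (t * a * t⁻¹) * t by group, ht'] at h1
        have h3 : ((b : ↥H) : G) * (z * a) = z * a * ((b : ↥H) : G) := by
          rw [← mul_assoc, h.hz.2.2 _ hb, mul_assoc, mul_inv_eq_iff_eq_mul.1 r, mul_assoc]
        rw [← mul_assoc, ← mul_assoc, mul_assoc _ z a, h3, ← mul_assoc a] at h1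
        have h4 : z * a * (((b : ↥H) : G) * t) = a * (((b : ↥H) : G) * t) := by
          simp only [mul_assoc] at h1 ⊢; exact h1
        exact absurd (mul_right_cancel h4) fun e => h.z1 (by simpa using e)
      · refine Or.inl ⟨⟨mul_mem hb htS, ?_⟩, fun hcon => ?_⟩
        · calc ((b : ↥H) : G) * t * a = ((b : ↥H) : G) * (t * a * t⁻¹) * t := by group
            _ = ((b : ↥H) : G) * z * a * t := by rw [ht']; group
            _ = z * (((b : ↥H) : G) * a * ((b : ↥H) : G)⁻¹) * (((b : ↥H) : G) * t) := by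
                rw [h.hz.2.2 _ hb]; group
            _ = z * z * a * (((b : ↥H) : G) * t) := by rw [r]; group
            _ = a * (((b : ↥H) : G) * t) := by rw [← pow_two, h.z2, one_mul]
        · exact h.z1 (by
            rw [hcon.2, mul_inv_cancel_right] at r
            simpa using r.symm)
    rcases CfsgLib.Transfer.thompson_transfer_involution R inf_le_left hQi (u := ⟨t, htH⟩)
      (Subtype.ext ht2) ((hR _).2 htS) with ⟨M, hMn, hMi, hMt⟩ | ⟨g, hg⟩
    · refine absurd ?_ hMt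
      have hle : H ≤ M.map H.subtype := by
        refine (closure_le _).2 fun x hx => ?_
        have hxH : x ∈ H := subset_closure hx
        refine ⟨⟨x, hxH⟩, ?_, rfl⟩
        haveI := hMn
        rw [SetLike.mem_coe, ← QuotientGroup.eq_one_iff, ← orderOf_eq_one_iff]
        refine Nat.eq_one_of_dvd_coprimes (a := orderOf x) (b := 2) hx ?_ ?_
        · exact (orderOf_map_dvd (QuotientGroup.mk' M) _).trans (dvd_of_eq (orderOf_coe _).symm)
        · rw [← hMi, index_eq_card]; exact orderOf_dvd_natCard _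
      obtain ⟨y, hy, hye⟩ := hle htH
      exact (Subtype.ext hye : y = ⟨t, htH⟩) ▸ hy
    · obtain ⟨hgS, hga⟩ := (hQ _).1 hg
      simp only [Subgroup.coe_mul, InvMemClass.coe_inv] at hgS hga
      obtain ⟨F, hF, htF, -, -⟩ := h.big_of_commute hE hgS (by rw [conj_pow, ht2, mul_one, mul_inv_cancel]) hga
      exact ⟨(g : G), F, hF, htF⟩
  · -- two central involutions
    by_cases htz : t ∈ zSub S
    · exact absurd (htz.2.2 a h.aS).symm hta
    obtain ⟨F, hF, -, -, htF⟩ := big_of_three hz₁.1 hz₂.1 htS hz₁.2.1 hz₂.2.1 ht2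
      (hz₂.2.2 z₁ hz₁.1) (hz₁.2.2 t htS).symm (hz₂.2.2 t htS).symm h1 h2 hne
      (fun e => htz (e ▸ one_mem _)) (fun e => htz (e ▸ hz₁)) (fun e => htz (e ▸ hz₂))
      (fun e => htz (e ▸ mul_mem hz₁ hz₂))
    exact ⟨1, F, hF, by simpa using htF⟩

end CfsgLib.Comp.SolvCent
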