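import Cfsg.Agent.Lib.Comp.SolvCent.Main
import Cfsg.Agent.Lib.Invol.MetacyclicTwo
import Cfsg.Agent.Lib.Coprime.BGroup
import Cfsg.Agent.S0518

/-!
# Solvable 2-locals: the alternative of characteristic two type
-/

set_option autoImplicit false
set_option linter.style.haveILetI false
set_option linter.unusedSectionVars false

namespace CfsgLib.Comp.SolvCent

open Subgroup

universe u

theorem perm_four_two_normal : ∀ x : Equiv.Perm (Fin 4), x ≠ 1 →
    (∀ y : Equiv.Perm (Fin 4), (x * (y * x * y⁻¹)) ^ 3 = 1 → x * (y * x * y⁻¹) = 1) →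
    x * x = 1 ∧ Equiv.Perm.sign x = 1 := by decide +kernel

theorem perm_four_conj : ∀ x v : Equiv.Perm (Fin 4), x * x = 1 → Equiv.Perm.sign x = 1 → x ≠ 1 →
    v * v = 1 → Equiv.Perm.sign v = 1 → v ≠ 1 → ∃ y : Equiv.Perm (Fin 4), y * x * y⁻¹ = v := by
  decide +kernel

theorem perm_four_cent : ∀ g : Equiv.Perm (Fin 4),
    (∀ v : Equiv.Perm (Fin 4), v * v = 1 → Equiv.Perm.sign v = 1 → g * v = v * g) →
    g * g = 1 ∧ Equiv.Perm.sign g = 1 := by decide

theorem perm_four_card :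
    (Finset.univ.filter fun v : Equiv.Perm (Fin 4) => v * v = 1 ∧ Equiv.Perm.sign v = 1).card = 4 := by
  decide

variable {Y : Type u} [Group Y] [Finite Y]

/-- A maximal 2-local `S₄` makes the Sylow 2-subgroups dihedral or semidihedral. -/
theorem dihedral_of_symFour {M : Subgroup Y} (hM : Cfsg.IsMaximalTwoLocal M)
    (e : M ≃* Equiv.Perm (Fin 4)) (R : Sylow 2 Y) :
    (∃ n : ℕ, 2 ≤ n ∧ Nonempty (↥(R : Subgroup Y) ≃* DihedralGroup n)) ∨
      Cfsg.IsQuasiDihedral ↥(R : Subgroup Y) := by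
  classical
  haveI : Fact (Nat.Prime 2) := ⟨Nat.prime_two⟩
  obtain ⟨T, hT, hT1, hMT⟩ := hM.1
  have hTM : T ≤ M := hMT ▸ le_normalizer
  set N := (T.subgroupOf M).map e.toMonoidHom with hN
  have hNn : N.Normal := by
    haveI : (T.subgroupOf M).Normal := by subst hMT; exact normal_in_normalizer
    exact Subgroup.Normal.map inferInstance _ e.surjective
  have hNp : IsPGroup 2 ↥N := (hT.comap_of_injective M.subtype M.subtype_injective).map _
  have hN1 : N ≠ ⊥ := fun h => hT1 (by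
    rw [hN, Subgroup.map_eq_bot_iff_of_injective _ e.injective, subgroupOf_eq_bot] at h
    exact h.eq_bot_of_le hTM)
  have hthree : ∀ w ∈ N, w ^ 3 = 1 → w = 1 := by
    intro w hw h3
    obtain ⟨k, hk⟩ := hNp ⟨w, hw⟩
    have hk' : w ^ 2 ^ k = 1 := congrArg Subtype.val hk
    rw [← orderOf_eq_one_iff]
    exact Nat.eq_one_of_dvd_coprimes ((Nat.coprime_primes Nat.prime_two Nat.prime_three).2 (by norm_num) |>.pow_left k)
      (orderOf_dvd_of_pow_eq_one hk') (orderOf_dvd_of_pow_eq_one h3)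
  have hmem : ∀ v, v ∈ N ↔ v * v = 1 ∧ Equiv.Perm.sign v = 1 := by
    intro v
    have hcl : ∀ x ∈ N, x ≠ 1 → ∀ y : Equiv.Perm (Fin 4),
        (x * (y * x * y⁻¹)) ^ 3 = 1 → x * (y * x * y⁻¹) = 1 :=
      fun x hx _ y => hthree _ (mul_mem hx (hNn.conj_mem x hx y))
    constructor
    · intro hv
      by_cases hv1 : v = 1
      · subst hv1; simp
      · exact perm_four_two_normal v hv1 (hcl v hv hv1)
    · rintro ⟨hv2, hvs⟩
      by_cases hv1 : v = 1
      · subst hv1; exact one_mem _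
      obtain ⟨x, hx, hx1⟩ := exists_mem_ne_one hN1
      obtain ⟨hx2, hxs⟩ := perm_four_two_normal x hx1 (hcl x hx hx1)
      obtain ⟨y, rfl⟩ := perm_four_conj x v hx2 hxs hx1 hv2 hvs hv1
      exact hNn.conj_mem x hx y
  have hT4 : Nat.card ↥T = 4 := by
    rw [← Nat.card_congr (subgroupOfEquivOfLe hTM).toEquiv,
      ← card_map_of_injective (K := T.subgroupOf M) (f := e.toMonoidHom) e.injective]
    haveI := Fintype.ofFinite ↥N
    show Nat.card ↥N = 4
    rw [Nat.card_eq_fintype_card, Fintype.card_of_subtype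
      (Finset.univ.filter fun v : Equiv.Perm (Fin 4) => v * v = 1 ∧ Equiv.Perm.sign v = 1) (fun v => by
        rw [Finset.mem_filter, hmem]; simp)]
    exact perm_four_card
  have hTN : ∀ x : ↥M, (x : Y) ∈ T ↔ e x ∈ N := fun x => by
    rw [hN]
    exact ⟨fun h => ⟨x, h, rfl⟩, fun ⟨y, hy, hyx⟩ => e.injective hyx ▸ hy⟩
  have hCT : centralizer (T : Set Y) = T := by
    refine le_antisymm (fun c hc => ?_) fun c hc => mem_centralizer_iff.2 fun d hd => ?_
    · have hcM : c ∈ M := hMT ▸ Subgroup.centralizer_le_normalizer _ hc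
      refine (hTN ⟨c, hcM⟩).2 ((hmem _).2 (perm_four_cent _ fun v hv hvs => ?_))
      obtain ⟨d, hd, rfl⟩ := ((hmem v).2 ⟨hv, hvs⟩ : v ∈ (T.subgroupOf M).map e.toMonoidHom)
      rw [MulEquiv.coe_toMonoidHom, ← map_mul, ← map_mul]
      exact congrArg e (Subtype.ext (mem_centralizer_iff.1 hc d hd).symm)
    · have h1 := (hmem _).1 ((hTN ⟨c, hTM hc⟩).1 hc)
      have h2 := (hmem _).1 ((hTN ⟨d, hTM hd⟩).1 hd)
      have h3 := (hmem _).1 ((hTN ⟨d * c, hTM (mul_mem hd hc)⟩).1 (mul_mem hd hc))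
      have e3 : e (⟨d * c, hTM (mul_mem hd hc)⟩ : ↥M) = e ⟨d, hTM hd⟩ * e ⟨c, hTM hc⟩ := map_mul e ⟨d, hTM hd⟩ ⟨c, hTM hc⟩
      rw [e3] at h3
      refine congrArg Subtype.val (e.injective (?_ : e (⟨d, hTM hd⟩ * ⟨c, hTM hc⟩) = e (⟨c, hTM hc⟩ * ⟨d, hTM hd⟩)))
      rw [map_mul, map_mul, ← inv_eq_of_mul_eq_one_right h3.1, mul_inv_rev,
        inv_eq_of_mul_eq_one_right h1.1, inv_eq_of_mul_eq_one_right h2.1]
  -- a Sylow subgroup over it
  obtain ⟨P, hP⟩ := hT.exists_le_sylow
  obtain ⟨m, hm⟩ := IsPGroup.iff_card.1 P.2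
  have hcent : centralizer ((T.subgroupOf (P : Subgroup Y)) : Set ↥(P : Subgroup Y)) = T.subgroupOf (P : Subgroup Y) := by
    refine le_antisymm (fun c hc => mem_subgroupOf.2 (hCT.le (mem_centralizer_iff.2 fun d hd => ?_))) fun c hc => ?_
    · exact congrArg Subtype.val (mem_centralizer_iff.1 hc ⟨d, hP hd⟩ hd)
    · exact mem_centralizer_iff.2 fun d hd => Subtype.ext (mem_centralizer_iff.1 (hCT.ge hc) d hd)
  have hTP : Nat.card ↥(T.subgroupOf (P : Subgroup Y)) = 4 := by
    rw [Nat.card_congr (subgroupOfEquivOfLe hP).toEquiv, hT4]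
  have hclass := CfsgLib.Transfer.maxClass_of_self_centralizing hm (T.subgroupOf (P : Subgroup Y))
    (by rw [hTP]; norm_num) hcent
  have hm3 : 3 ≤ m := by
    obtain ⟨Q, hQ⟩ : ∃ Q : Subgroup ↥M, Nat.card ↥Q = 2 ^ 3 := Sylow.exists_subgroup_card_pow_prime (G := ↥M) 2 (n := 3)
      (by rw [Nat.card_congr e.toEquiv, Nat.card_perm, Nat.card_fin]; decide)
    have hQ' : IsPGroup 2 ↥(Q.map M.subtype) := (IsPGroup.of_card hQ).map _
    obtain ⟨P', hP'⟩ := hQ'.exists_le_sylow
    have h1 := card_le_of_le hP'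
    rw [card_map_of_injective M.subtype_injective, hQ, Nat.card_congr (P'.equiv P).toEquiv, hm] at h1
    exact (Nat.pow_le_pow_iff_right (by norm_num)).1 h1
  rcases CfsgLib.Invol.maxClass_two_types hm3 hm hclass with ⟨k, ⟨f⟩⟩ | ⟨k, ⟨f⟩⟩ | h
  · refine Or.inl ⟨k, ?_, ⟨((R.equiv P)).trans f⟩⟩
    have h1 := Nat.card_congr f.toEquiv
    rw [hm, DihedralGroup.nat_card] at h1
    have h2 : 2 ^ 3 ≤ 2 ^ m := Nat.pow_le_pow_right (by norm_num) hm3
    omega
  · -- a quaternion group has no four-group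
    exfalso
    haveI : NeZero k := ⟨fun h0 => by
      subst h0
      have h1 := Nat.card_congr f.toEquiv
      rw [hm] at h1
      haveI : Infinite (QuaternionGroup 0) := Infinite.of_injective (fun i : ℤ => QuaternionGroup.a (i : ZMod (2 * 0)))
        (fun i j h => by injection h)
      rw [Nat.card_eq_zero_of_infinite] at h1
      exact absurd h1 (by positivity)⟩
    have hsq : ∀ x ∈ T.subgroupOf (P : Subgroup Y), f x = 1 ∨ f x = QuaternionGroup.a (k : ZMod (2 * k)) := by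
      intro x hx
      refine CfsgLib.Coprime.quaternion_sq_eq_one (f x) ?_
      rw [← map_pow]
      refine (map_eq_one_iff f f.injective).2 (Subtype.ext ?_)
      have h1 := ((hmem _).1 ((hTN ⟨(x : Y), hTM hx⟩).1 hx)).1
      rw [← map_mul, map_eq_one_iff e e.injective] at h1
      simpa [pow_two] using congrArg Subtype.val h1
    haveI := Fintype.ofFinite ↥(T.subgroupOf (P : Subgroup Y))
    let g : ↥(T.subgroupOf (P : Subgroup Y)) → Bool := fun x => decide (f x = 1)
    have hg : Function.Injective g := by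
      intro a b hab
      simp only [g, decide_eq_decide] at hab
      refine Subtype.ext (f.injective ?_)
      rcases hsq a a.2 with ha | ha <;> rcases hsq b b.2 with hb | hb
      · rw [ha, hb]
      · rw [ha, hab.1 ha]
      · rw [hb, hab.2 hb]
      · rw [ha, hb]
    have := Fintype.card_le_of_injective g hg
    rw [← Nat.card_eq_fintype_card, hTP, Fintype.card_bool] at this
    omega
  · refine Or.inr ?_
    obtain ⟨n, hn, hc, x, y, hx, hy, hxy⟩ := h
    refine ⟨n, hn, (Nat.card_congr (R.equiv P).toEquiv).trans hc, (R.equiv P).symm x, (R.equiv P).symm y, ?_, ?_, ?_⟩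
    · rw [MulEquiv.orderOf_eq, hx]
    · rw [MulEquiv.orderOf_eq, hy]
    · rw [← map_inv, ← map_mul, ← map_mul, hxy, map_pow]

end CfsgLib.Comp.SolvCent
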