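import Cfsg.Agent.Lib.Comp.SolvCent.ZNCase
import Cfsg.Agent.Lib.Invol.Strong

/-!
# Solvable 2-locals: the four alternatives
-/

set_option autoImplicit false
set_option linter.style.haveILetI false
set_option linter.unusedSectionVars false

namespace CfsgLib.Comp.SolvCent

open Subgroup

universe u

variable {G : Type u} [Group G] [Finite G]

theorem odd_mem_pResidual {g : G} (hg : Odd (orderOf g)) : g ∈ Cfsg.pResidual 2 G :=
  subset_closure (Nat.coprime_two_right.2 hg)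

theorem zn_case (hG : Ctx G) (hO : Cfsg.pCore 2 G = ⊥)
    (hN : ∀ L : Subgroup G, Cfsg.IsTwoLocal L → Group.IsSolvable ↥L) (S : Sylow 2 G)
    (hchar : Cfsg.IsCharacteristicTwoType ↥(Cfsg.pResidual 2 G ⊔ zSub S)) :
    (∃ M : Subgroup ↥(Cfsg.pResidual 2 G), Cfsg.IsStronglyEmbedded M) ∨
    ((∃ n : ℕ, 2 ≤ n ∧ Nonempty (↥((S : Subgroup G) ⊓ Cfsg.pResidual 2 G) ≃* DihedralGroup n)) ∨
      Cfsg.IsQuasiDihedral ↥((S : Subgroup G) ⊓ Cfsg.pResidual 2 G)) := by
  classical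
  haveI : Fact (Nat.Prime 2) := ⟨Nat.prime_two⟩
  have hne := inf_pResidual_ne_bot hG hO
  set H := Cfsg.pResidual 2 G with hH
  haveI : H.Normal := CfsgLib.Transfer.pResidual_normal
  set X := H ⊔ zSub S with hX
  have hHX : H ≤ X := le_sup_left
  haveI hXn : X.Normal := by
    rw [← normalizer_eq_top_iff, eq_top_iff, ← sup_pResidual S]
    refine sup_le (fun s hs => ?_) (hHX.trans le_normalizer)
    rw [← map_conj_eq_iff, hX, Subgroup.map_sup,
      map_conj_eq_iff.2 ((normalizer_eq_top_iff.2 ‹H.Normal›).symm ▸ mem_top s)]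
    congr 1
    exact map_conj_eq_iff.2 (Subgroup.centralizer_le_normalizer _
      (mem_centralizer_iff.2 fun x hx => (hx.2.2 s hs).symm))
  -- central involutions of every Sylow subgroup lie in `X`
  have hzX : ∀ U : Sylow 2 G, zSub U ≤ X := by
    intro U x hx
    obtain ⟨g, rfl⟩ := MulAction.exists_smul_eq G S U
    have h := hXn.conj_mem _ (mem_sup_right ((zSub_smul S g x).1 hx) : g⁻¹ * x * g ∈ X) g
    simpa [mul_assoc] using h
  have hOX : Cfsg.pCore 2 ↥X = ⊥ := by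
    haveI := Cfsg.pCore_normal 2 ↥X
    haveI := CfsgLib.Solvable.pCore_characteristic 2 ↥X
    refine (Subgroup.map_eq_bot_iff_of_injective _ X.subtype_injective).1 (le_bot_iff.1 ?_)
    rw [← hO]
    exact le_sSup ⟨inferInstance, (isPGroup_pCore 2 ↥X).map _⟩
  have hNX : ∀ L : Subgroup ↥X, Cfsg.IsTwoLocal L → Group.IsSolvable ↥L := by
    rintro L ⟨T, hT, hT1, rfl⟩
    haveI := hN _ ⟨T.map X.subtype, hT.map _,
      fun e => hT1 ((Subgroup.map_eq_bot_iff_of_injective _ X.subtype_injective).1 e), rfl⟩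
    let f : ↥(normalizer (T : Set ↥X)) →* ↥(normalizer ((T.map X.subtype : Subgroup G) : Set G)) :=
      (X.subtype.comp (normalizer (T : Set ↥X)).subtype).codRestrict _
        fun x => le_normalizer_map X.subtype ⟨(x : ↥X), x.2, rfl⟩
    refine Group.isSolvable_of_isSolvable_injective (f := f) fun a b hab => ?_
    refine Subtype.ext (Subtype.ext ?_)
    exact (congrArg Subtype.val hab :)
  have hZX : ∀ P : Sylow 2 ↥X, centralizer {z : ↥X | z ∈ (P : Subgroup ↥X) ∧ z ^ 2 = 1 ∧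
      ∀ s ∈ (P : Subgroup ↥X), s * z = z * s} ≤ normalizer ((P : Subgroup ↥X) : Set ↥X) := by
    intro P c hc
    obtain ⟨U, hU⟩ := (P.2.map X.subtype).exists_le_sylow
    have hPU : ∀ x : ↥X, x ∈ (P : Subgroup ↥X) ↔ (x : G) ∈ (U : Subgroup G) := fun x =>
      ⟨fun hx => hU ⟨x, hx, rfl⟩, fun hx => (P.3 (U.2.comap_of_injective X.subtype X.subtype_injective :
        IsPGroup 2 ↥((U : Subgroup G).subgroupOf X)) (fun y hy => mem_subgroupOf.2 (hU ⟨y, hy, rfl⟩))).le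
          (mem_subgroupOf.2 hx)⟩
    have hcU : (c : G) ∈ normalizer ((U : Subgroup G) : Set G) := hG.zn U c fun x hx =>
      (congrArg Subtype.val (mem_centralizer_iff.1 hc ⟨x, hzX U hx⟩
        ⟨(hPU _).2 hx.1, Subtype.ext hx.2.1, fun s hs => Subtype.ext (hx.2.2 _ ((hPU s).1 hs))⟩)).symm
    refine mem_normalizer_iff.2 fun x => ?_
    simp only [hPU, Subgroup.coe_mul, InvMemClass.coe_inv]
    exact mem_normalizer_iff.1 hcU x
  have hgen : H.subgroupOf X = closure {g : ↥X | Odd (orderOf g)} := by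
    apply map_injective X.subtype_injective
    rw [map_subgroupOf_eq_of_le hHX, MonoidHom.map_closure, hH, Cfsg.pResidual]
    congr 1
    ext g
    constructor
    · intro hg
      exact ⟨⟨g, hHX (subset_closure hg)⟩,
        (by rw [Set.mem_setOf_eq, ← orderOf_coe]; exact Nat.coprime_two_right.1 hg), rfl⟩
    · rintro ⟨y, hy, rfl⟩
      show Nat.Coprime (orderOf (y : G)) 2
      rw [orderOf_coe]; exact Nat.coprime_two_right.2 hy
  rcases Cfsg.Agent.S0518.result hchar hOX hNX hZX (H.subgroupOf X) hgen with ⟨M, hM⟩ |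
    ⟨M₁, M₂, -, hM₁, -, ⟨e⟩, -, -⟩
  · refine Or.inl ⟨((M.map X.subtype)).subgroupOf H, ?_⟩
    set M' := M.map X.subtype with hM'
    have hM'X : M' ≤ X := map_subtype_le M
    obtain ⟨hMtop, hMeven, hModd⟩ := hM
    have hse : Cfsg.IsStronglyEmbedded M := ⟨hMtop, hMeven, hModd⟩
    have hmem : ∀ x : ↥X, (x : G) ∈ M' ↔ x ∈ M := fun x => mem_map_iff_mem X.subtype_injective
    have htr : ∀ g : G, g ∈ X → g ∉ M' → ∀ x : G, x ∈ M' → g⁻¹ * x * g ∈ M' → x ^ 2 = 1 → x = 1 := by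
      intro g hg hgM x hx hxg hx2
      by_contra hx1
      have hgM' : (⟨g, hg⟩ : ↥X) ∉ M := fun h => hgM ((hmem _).2 h)
      refine (Nat.not_even_iff_odd.2 (hModd ⟨g, hg⟩ hgM')) (even_iff_two_dvd.2 ?_)
      have h1 : (⟨x, hM'X hx⟩ : ↥X) ∈ M ⊓ M.map (MulAut.conj (⟨g, hg⟩ : ↥X)).toMonoidHom :=
        ⟨(hmem _).1 hx, ⟨(⟨g, hg⟩ : ↥X)⁻¹ * ⟨x, hM'X hx⟩ * ⟨g, hg⟩, (hmem _).1 hxg, Subtype.ext (by
          show g * (g⁻¹ * x * g) * g⁻¹ = x
          group)⟩⟩
      have h2 := Subgroup.orderOf_dvd_natCard _ h1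
      rw [← orderOf_coe, orderOf_eq_prime hx2 hx1] at h2
      exact h2
    -- an involution of `H` in `M`
    obtain ⟨t, htM, ht, ht1⟩ : ∃ t : G, t ∈ M' ⊓ H ∧ t ^ 2 = 1 ∧ t ≠ 1 := by
      obtain ⟨⟨s, hsM⟩, hso⟩ := exists_prime_orderOf_dvd_card' (G := ↥M) 2 (even_iff_two_dvd.1 hMeven)
      have hso' : orderOf s = 2 := by rw [← hso]; exact orderOf_coe (⟨s, hsM⟩ : ↥M)
      have hs2 : (s : G) ^ 2 = 1 := congrArg Subtype.val (hso' ▸ pow_orderOf_eq_one s)
      obtain ⟨U, hU⟩ := (isPGroup_zpowers_sq hs2).exists_le_sylow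
      obtain ⟨z, hz, hz1, hzH⟩ := exists_central_mem U (hne U)
      refine ⟨z, ⟨(hmem ⟨z, hHX hzH⟩).2 (CfsgLib.Invol.se_centralizer_le hse hso' hsM
        (mem_centralizer_singleton_iff.2 (Subtype.ext (hz.2.2 _ (hU (mem_zpowers _))).symm))), hzH⟩, hz.2.1, hz1⟩
    refine ⟨fun e => ?_, ?_, fun g hg => ?_⟩
    · have hHM : H ≤ M' := subgroupOf_eq_top.1 e
      obtain ⟨x, hx⟩ : ∃ x : ↥X, x ∉ M := by
        by_contra hcon
        push Not at hcon
        exact hMtop (eq_top_iff.2 fun x _ => hcon x)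
      refine ht1 (htr x x.2 (fun hh' => hx ((hmem _).1 hh')) t htM.1 ?_ ht)
      exact hHM (by simpa using Normal.conj_mem inferInstance t htM.2 (x : G)⁻¹)
    · refine even_iff_two_dvd.2 ?_
      have h1 : (⟨t, htM.2⟩ : ↥H) ∈ M'.subgroupOf H := mem_subgroupOf.2 htM.1
      have h2 := Subgroup.orderOf_dvd_natCard _ h1
      rwa [← orderOf_coe, orderOf_eq_prime ht ht1] at h2
    · refine Nat.not_even_iff_odd.1 fun he => ?_
      obtain ⟨⟨x, hxM, hxg⟩, hxo⟩ := exists_prime_orderOf_dvd_card'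
        (G := ↥(M'.subgroupOf H ⊓ (M'.subgroupOf H).map (MulAut.conj g).toMonoidHom)) 2 (even_iff_two_dvd.1 he)
      obtain ⟨r, hrM, hr⟩ := hxg
      have hxo' : orderOf (x : G) = 2 := by
        rw [orderOf_coe, ← hxo]
        exact orderOf_coe (⟨x, hxM, r, hrM, hr⟩ : ↥(M'.subgroupOf H ⊓ (M'.subgroupOf H).map (MulAut.conj g).toMonoidHom))
      have h3 := htr (g : G) (hHX g.2) (fun h => hg (mem_subgroupOf.2 h)) (x : G) (mem_subgroupOf.1 hxM) (by
        rw [← hr]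
        simpa [mul_assoc] using mem_subgroupOf.1 hrM) (hxo' ▸ pow_orderOf_eq_one _)
      rw [h3, orderOf_one] at hxo'
      omega
  · refine Or.inr ?_
    obtain ⟨R₀, hR₀⟩ := CfsgLib.Transfer.exists_sylow_eq_subgroupOf S H
    set eH : ↥(H.subgroupOf X) ≃* ↥H := subgroupOfEquivOfLe hHX with heH
    have hinj : Function.Injective ⇑eH.toMonoidHom := eH.injective
    have hrange : (R₀ : Subgroup ↥H) ≤ eH.toMonoidHom.range := by
      intro x _
      exact ⟨eH.symm x, eH.apply_symm_apply x⟩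
    set R₁ : Sylow 2 ↥(H.subgroupOf X) := R₀.comapOfInjective eH.toMonoidHom hinj hrange with hR₁
    have e₁ : ↥((R₁ : Sylow 2 ↥(H.subgroupOf X)) : Subgroup ↥(H.subgroupOf X)) ≃* ↥(R₀ : Subgroup ↥H) :=
      (eH.subgroupMap _).trans (MulEquiv.subgroupCongr (by
        rw [hR₁, Sylow.coe_comapOfInjective]; exact map_comap_eq_self_of_surjective eH.surjective _))
    have e₂ : ↥(R₀ : Subgroup ↥H) ≃* ↥((S : Subgroup G) ⊓ H) :=
      (MulEquiv.subgroupCongr (hR₀.trans (inf_subgroupOf_right _ _).symm)).trans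
        (subgroupOfEquivOfLe inf_le_right)
    rcases dihedral_of_symFour hM₁ e R₁ with ⟨n, hn, ⟨f⟩⟩ | ⟨n, hn, hc, x, y, hx, hy, hxy⟩
    · exact Or.inl ⟨n, hn, ⟨(e₁.trans e₂).symm.trans f⟩⟩
    · refine Or.inr ⟨n, hn, (Nat.card_congr (e₁.trans e₂).toEquiv).symm.trans hc, (e₁.trans e₂) x,
        (e₁.trans e₂) y, ?_, ?_, ?_⟩
      · rw [MulEquiv.orderOf_eq, hx]
      · rw [MulEquiv.orderOf_eq, hy]
      · rw [← map_inv, ← map_mul, ← map_mul, hxy, map_pow]

end CfsgLib.Comp.SolvCent
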